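import Groth.Agent.W4RamLib.Tangent
import Groth.Prelude.Def_W4c1limliniiiiRamP1

/-! Generic finiteness of maps of the line with prescribed tame ramification. -/

set_option autoImplicit false
universe u

namespace Groth.Agent.W4RamLib

open Polynomial

variable {A B : Type u} [CommRing A] [CommRing B] {d n : ℕ}

/-- The coordinates: points and coefficients. -/
abbrev Idx (n d : ℕ) : Type := Fin n ⊕ (Fin 2 × Fin (d + 1))

/-- A polynomial from its coordinates. -/
noncomputable def polyOf (z : Idx n d → A) (r : Fin 2) : A[X] := ∑ j : Fin (d + 1), C (z (Sum.inr (r, j))) * X ^ (j : ℕ)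

lemma coeff_polyOf (z : Idx n d → A) (r : Fin 2) (m : Fin (d + 1)) : (polyOf z r).coeff (m : ℕ) = z (Sum.inr (r, m)) := by
  rw [polyOf, finsetSum_coeff]
  simp only [coeff_C_mul_X_pow, Fin.val_inj]
  rw [Finset.sum_ite_eq Finset.univ m, if_pos (Finset.mem_univ m)]

lemma natDegree_polyOf (z : Idx n d → A) (r : Fin 2) : (polyOf z r).natDegree ≤ d :=
  natDegree_sum_le_of_forall_le _ _ fun j _ => (natDegree_C_mul_X_pow_le _ _).trans (by omega)

lemma polyOf_map (φ : A →+* B) (z : Idx n d → A) (r : Fin 2) : (polyOf z r).map φ = polyOf (φ ∘ z) r := by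
  simp [polyOf, Polynomial.map_sum]

/-- The member of the pencil vanishing at a given point. -/
noncomputable def member (z : Idx n d → A) (l : Fin n) : A[X] :=
  C ((polyOf z 1).eval (z (Sum.inl l))) * polyOf z 0 - C ((polyOf z 0).eval (z (Sum.inl l))) * polyOf z 1

lemma member_map (φ : A →+* B) (z : Idx n d → A) (l : Fin n) : (member z l).map φ = member (φ ∘ z) l := by
  simp only [member, Polynomial.map_sub, Polynomial.map_mul, map_C, polyOf_map, Function.comp_apply]
  rw [← Polynomial.eval₂_at_apply, ← Polynomial.eval₂_at_apply, ← Polynomial.eval_map, ← Polynomial.eval_map, polyOf_map, polyOf_map]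

/-- A local coefficient of the member. -/
noncomputable def localCoeff (z : Idx n d → A) (l : Fin n) (m : ℕ) : A := (taylor (z (Sum.inl l)) (member z l)).coeff m

lemma localCoeff_map (φ : A →+* B) (z : Idx n d → A) (l : Fin n) (m : ℕ) :
    φ (localCoeff z l m) = localCoeff (φ ∘ z) l m := by
  rw [localCoeff, localCoeff, ← coeff_map, taylor_apply, Polynomial.map_comp, member_map, taylor_apply]
  simp

lemma pow_dvd_iff_taylor (r : A) (f : A[X]) (e : ℕ) :
    (X - C r) ^ e ∣ f ↔ ∀ m < e, (taylor r f).coeff m = 0 := by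
  have ht : (taylor r) ((X - C r) ^ e) = X ^ e := by
    rw [taylor_apply, pow_comp, sub_comp, X_comp, C_comp, add_sub_cancel_right]
  rw [← X_pow_dvd_iff]
  constructor
  · rintro ⟨g, rfl⟩
    rw [taylor_mul, ht]
    exact dvd_mul_right _ _
  · rintro ⟨g, hg⟩
    refine ⟨taylor (-r) g, ?_⟩
    have : (taylor (-r)) (X ^ e : A[X]) = (X - C r) ^ e := by
      rw [taylor_apply, pow_comp, X_comp, map_neg, sub_eq_add_neg]
    rw [← this, ← taylor_mul, ← hg, taylor_taylor, neg_add_cancel, taylor_zero]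

variable (e : Fin n → ℕ)

/-- The equations of a chart. -/
noncomputable def eqns (A : Type u) [CommRing A] (i j : Fin (d + 1)) (z : Idx n d → A) : Set A :=
  {z (Sum.inr (0, i)) - 1, z (Sum.inr (0, j)), z (Sum.inr (1, i)), z (Sum.inr (1, j)) - 1} ∪
    Set.range fun lm : (l : Fin n) × Fin (e l) => localCoeff z lm.1 lm.2

/-- The open conditions. -/
structure Good (z : Idx n d → A) : Prop where
  hW : wronskian (polyOf z 0) (polyOf z 1) ≠ 0
  hP : Function.Injective fun l => z (Sum.inl l)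
  hb : ∀ l, ¬ ((polyOf z 0).eval (z (Sum.inl l)) = 0 ∧ (polyOf z 1).eval (z (Sum.inl l)) = 0)
  hd : (polyOf z 0).coeff d ≠ 0 ∨ (polyOf z 1).coeff d ≠ 0
  hS' : ∀ l, localCoeff z l (e l) ≠ 0

/-- The equation saying that two points go to the same point. -/
noncomputable def cross (z : Idx n d → A) (a b : Fin n) : A :=
  (polyOf z 0).eval (z (Sum.inl a)) * (polyOf z 1).eval (z (Sum.inl b)) -
    (polyOf z 0).eval (z (Sum.inl b)) * (polyOf z 1).eval (z (Sum.inl a))

variable {k : Type u} [Field k]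

/-- The universal point. -/
noncomputable def gen (k : Type u) [Field k] (n d : ℕ) : Idx n d → MvPolynomial (Idx n d) k := MvPolynomial.X

lemma eval_option (h : MvPolynomial (Option (Fin n)) k) (P : Fin n → k) (x : k) :
    ((MvPolynomial.optionEquivLeft k (Fin n) h).map (MvPolynomial.eval P)).eval x =
      MvPolynomial.eval (fun o => o.elim x P) h := by
  induction h using MvPolynomial.induction_on with
  | C a => simp [MvPolynomial.optionEquivLeft_apply]
  | add a b ha hb => simp [map_add, ha, hb]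
  | mul_X a o ha => cases o <;> simp [map_mul, Polynomial.map_mul, ha, MvPolynomial.optionEquivLeft_apply] <;> left <;> simpa [MvPolynomial.optionEquivLeft_apply] using ha

variable {p : ℕ} [CharP k p]

/-- On a component with a good point the transcendence degree is small. -/
theorem component (he : ∀ l, 1 ≤ e l) (hp : ∀ l, ¬ p ∣ e l) (hsum : (∑ i, e i) + 2 = 2 * d + n)
    (i j : Fin (d + 1)) (q : Ideal (MvPolynomial (Idx n d) k)) [q.IsPrime]
    (hq : eqns e (MvPolynomial (Idx n d) k) i j (gen k n d) ⊆ q)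
    (z : Idx n d → k) (hz : q ≤ RingHom.ker (MvPolynomial.eval z)) (hgood : Good e z) :
    (∀ c : Fin 2 × Fin (d + 1), ∃ h : MvPolynomial (Option (Fin n)) k, h ≠ 0 ∧
      ∀ w : Idx n d → k, q ≤ RingHom.ker (MvPolynomial.eval w) →
        MvPolynomial.eval (fun o => o.elim (w (Sum.inr c)) fun l => w (Sum.inl l)) h = 0) ∧
      ∀ a b : Fin n, a ≠ b → cross (gen k n d) a b ∈ q → ∃ h : MvPolynomial (Fin n) k, h ≠ 0 ∧
        ∀ w : Idx n d → k, q ≤ RingHom.ker (MvPolynomial.eval w) → MvPolynomial.eval (fun l => w (Sum.inl l)) h = 0 := by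
  classical
  let R := MvPolynomial (Idx n d) k
  let L := q.ResidueField
  haveI : Algebra.EssFiniteType (R ⧸ q) L := Algebra.EssFiniteType.of_isLocalization L (nonZeroDivisors (R ⧸ q))
  haveI : Algebra.EssFiniteType k L := Algebra.EssFiniteType.comp k (R ⧸ q) L
  haveI : CharP L p := charP_of_injective_algebraMap (algebraMap k L).injective p
  let ψ : R →+* L := algebraMap R L
  have hker : ∀ a, ψ a = 0 ↔ a ∈ q := fun a => Ideal.algebraMap_residueField_eq_zero
  have hnz : ∀ a : R, MvPolynomial.eval z a ≠ 0 → ψ a ≠ 0 := fun a ha h0 => ha (hz ((hker a).mp h0))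
  have hnzP : ∀ f : R[X], f.map (MvPolynomial.eval z) ≠ 0 → f.map ψ ≠ 0 := fun f hf h0 => by
    refine hf (Polynomial.ext fun m => ?_)
    rw [coeff_map, coeff_zero]
    by_contra hne
    exact hnz _ hne (by rw [← coeff_map, h0, coeff_zero])
  let zL : Idx n d → L := ψ ∘ gen k n d
  have hzk : MvPolynomial.eval z ∘ gen k n d = z := funext fun s => MvPolynomial.eval_X (f := z) s
  have hW : wronskian (polyOf zL 0) (polyOf zL 1) ≠ 0 := by
    rw [← polyOf_map, ← polyOf_map, ← Groth.Agent.S13929.wr_map]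
    refine hnzP _ ?_
    rw [Groth.Agent.S13929.wr_map, polyOf_map, polyOf_map, hzk]
    exact hgood.hW
  have hval : ∀ (φ : R →+* k) (r : Fin 2) (l : Fin n),
      φ ((polyOf (gen k n d) r).eval (gen k n d (Sum.inl l))) = (polyOf (φ ∘ gen k n d) r).eval (φ (gen k n d (Sum.inl l))) :=
    fun φ r l => by rw [← polyOf_map, eval_map, eval₂_at_apply]
  have hvalL : ∀ (r : Fin 2) (l : Fin n),
      ψ ((polyOf (gen k n d) r).eval (gen k n d (Sum.inl l))) = (polyOf zL r).eval (zL (Sum.inl l)) :=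
    fun r l => by
      show _ = (polyOf (ψ ∘ gen k n d) r).eval (ψ (gen k n d (Sum.inl l)))
      rw [← polyOf_map, eval_map, eval₂_at_apply]
  have h0 : ∀ a ∈ eqns e R i j (gen k n d), ψ a = 0 := fun a ha => (hker a).mpr (hq ha)
  let D : Data L d n e :=
    { F := polyOf zL 0
      G := polyOf zL 1
      P := fun l => zL (Sum.inl l)
      i₀ := i
      j₀ := j
      hF := natDegree_polyOf _ _
      hG := natDegree_polyOf _ _
      hFi := by
        rw [coeff_polyOf]
        have := h0 _ (Or.inl (Or.inl rfl))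
        rw [map_sub, map_one, sub_eq_zero] at this
        exact this
      hFj := by rw [coeff_polyOf]; exact h0 _ (Or.inl (Or.inr (Or.inl rfl)))
      hGi := by rw [coeff_polyOf]; exact h0 _ (Or.inl (Or.inr (Or.inr (Or.inl rfl))))
      hGj := by
        rw [coeff_polyOf]
        have := h0 _ (Or.inl (Or.inr (Or.inr (Or.inr rfl))))
        rw [map_sub, map_one, sub_eq_zero] at this
        exact this
      hW := hW
      hP := fun a b hab => by
        by_contra hne
        refine hnz (gen k n d (Sum.inl a) - gen k n d (Sum.inl b)) ?_ (by rw [map_sub]; exact sub_eq_zero.mpr hab)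
        simp only [gen, map_sub, MvPolynomial.eval_X]
        exact sub_ne_zero.mpr fun h => hne (hgood.hP h)
      hb := fun l hl => by
        refine hgood.hb l ⟨?_, ?_⟩
        · by_contra hne
          refine hnz ((polyOf (gen k n d) 0).eval (gen k n d (Sum.inl l))) ?_ (by rw [hvalL]; exact hl.1)
          rw [hval, hzk, gen, MvPolynomial.eval_X]; exact hne
        · by_contra hne
          refine hnz ((polyOf (gen k n d) 1).eval (gen k n d (Sum.inl l))) ?_ (by rw [hvalL]; exact hl.2)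
          rw [hval, hzk, gen, MvPolynomial.eval_X]; exact hne
      hd := by
        have key : ∀ r, (polyOf z r).coeff d ≠ 0 → (polyOf zL r).coeff d ≠ 0 := fun r h => by
          rw [show zL = ψ ∘ gen k n d from rfl, ← polyOf_map, coeff_map]
          refine hnz _ ?_
          rw [← coeff_map, polyOf_map, hzk]; exact h
        exact hgood.hd.imp (key 0) (key 1)
      hS := fun l => by
        show _ ∣ member zL l
        rw [pow_dvd_iff_taylor]
        intro m hm
        show localCoeff zL l m = 0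
        rw [show zL = ψ ∘ gen k n d from rfl, ← localCoeff_map]
        exact h0 _ (Or.inr ⟨⟨l, ⟨m, hm⟩⟩, rfl⟩)
      hS' := fun l hl => by
        refine hnz (localCoeff (gen k n d) l (e l)) ?_ ?_
        · rw [localCoeff_map, hzk]; exact hgood.hS' l
        · rw [localCoeff_map]
          exact (pow_dvd_iff_taylor _ _ _).mp hl _ (Nat.lt_succ_self _) }
  have hgen : ∀ Δ : Derivation k L L,
      (∀ m, Δ (D.F.coeff m) = 0) → (∀ m, Δ (D.G.coeff m) = 0) → (∀ l, Δ (D.P l) = 0) → Δ = 0 := by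
    intro Δ hF hG hP
    have hX : ∀ s, Δ (ψ (MvPolynomial.X s)) = 0 := by
      rintro (l | ⟨r, m⟩)
      · exact hP l
      · fin_cases r
        · have := hF m; rwa [coeff_polyOf] at this
        · have := hG m; rwa [coeff_polyOf] at this
    have hR : ∀ a : R, Δ (ψ a) = 0 := fun a => by
      induction a using MvPolynomial.induction_on with
      | C c =>
        rw [show ψ (MvPolynomial.C c) = algebraMap k L c from (IsScalarTower.algebraMap_apply k R L c).symm]
        exact Derivation.map_algebraMap Δ c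
      | add a b ha hb => rw [map_add, map_add, ha, hb, add_zero]
      | mul_X a s ha => rw [map_mul, Derivation.leibniz, ha, hX, smul_zero, smul_zero, add_zero]
    refine Derivation.ext fun x => ?_
    obtain ⟨a, b, -, rfl⟩ := IsFractionRing.div_surjective (A := R ⧸ q) x
    obtain ⟨a, rfl⟩ := Ideal.Quotient.mk_surjective a
    obtain ⟨b, rfl⟩ := Ideal.Quotient.mk_surjective b
    have hb := hR b
    have ha := hR a
    rw [show ψ b = algebraMap (R ⧸ q) L (Ideal.Quotient.mk q b) from IsScalarTower.algebraMap_apply R (R ⧸ q) L b] at hb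
    rw [show ψ a = algebraMap (R ⧸ q) L (Ideal.Quotient.mk q a) from IsScalarTower.algebraMap_apply R (R ⧸ q) L a] at ha
    rw [Derivation.leibniz_div, ha, hb]
    simp
  obtain ⟨htr, htr'⟩ := trdeg_le (k := k) D he hsum (fun l => fun h => hp l ((CharP.cast_eq_zero_iff L p (e l)).mp h)) hgen
  have hfin : Algebra.trdeg k L < Cardinal.aleph0 := trdeg_lt_aleph0 k L
  have hrel : ∀ {ι : Type} [Fintype ι] (y : ι → Idx n d), Cardinal.toNat (Algebra.trdeg k L) < Fintype.card ι →
      ∃ h : MvPolynomial ι k, h ≠ 0 ∧ ∀ w : Idx n d → k, q ≤ RingHom.ker (MvPolynomial.eval w) →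
        MvPolynomial.eval (fun o => w (y o)) h = 0 := by
    intro ι _ y hlt
    have hnind : ¬ AlgebraicIndependent k (fun o => ψ (gen k n d (y o))) := fun hind => by
      have := hind.lift_cardinalMk_le_trdeg
      have h2 := Cardinal.toNat_le_toNat this (Cardinal.lift_lt_aleph0.mpr hfin)
      simp at h2
      omega
    rw [algebraicIndependent_iff] at hnind
    push Not at hnind
    obtain ⟨h, hh, hne⟩ := hnind
    refine ⟨h, hne, fun w hw => ?_⟩
    have hmem : MvPolynomial.aeval (fun o => gen k n d (y o)) h ∈ q := (hker _).mp (by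
      rw [← hh]
      exact MvPolynomial.comp_aeval_apply _ (IsScalarTower.toAlgHom k R L) h)
    have := hw hmem
    rw [RingHom.mem_ker] at this
    rw [← this]
    have h2 := MvPolynomial.comp_aeval_apply (fun o => gen k n d (y o)) (MvPolynomial.aeval (R := k) w) h
    simp only [MvPolynomial.aeval_eq_eval, gen, MvPolynomial.eval_X] at h2
    exact h2.symm
  refine ⟨fun c => ?_, fun a b hab hcr => ?_⟩
  · obtain ⟨h, hne, hh⟩ := hrel (ι := Option (Fin n)) (fun o => o.elim (Sum.inr c) Sum.inl) (by simp; omega)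
    refine ⟨h, hne, fun w hw => ?_⟩
    rw [← hh w hw]
    exact congrArg (fun g => MvPolynomial.eval g h) (funext fun o => by cases o <;> rfl)
  · have hlt := htr' a b hab (by
      have := (hker _).mpr hcr
      rw [cross, map_sub, map_mul, map_mul, hvalL, hvalL, hvalL, hvalL, sub_eq_zero] at this
      exact this)
    exact hrel (ι := Fin n) Sum.inl (by simp; omega)

omit [CharP k p] in
lemma exists_avoid {α : Type*} (s : Finset α) (Q : α → (Fin n → k) → Prop)
    (h : ∀ a ∈ s, ∃ Φ : MvPolynomial (Fin n) k, Φ ≠ 0 ∧ ∀ P, MvPolynomial.eval P Φ ≠ 0 → Q a P) :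
    ∃ Φ : MvPolynomial (Fin n) k, Φ ≠ 0 ∧ ∀ P, MvPolynomial.eval P Φ ≠ 0 → ∀ a ∈ s, Q a P := by
  classical
  choose! Φ hΦ using h
  refine ⟨∏ a ∈ s, Φ a, Finset.prod_ne_zero_iff.mpr fun a ha => (hΦ a ha).1, fun P hP a ha => (hΦ a ha).2 P ?_⟩
  rw [map_prod, Finset.prod_ne_zero_iff] at hP
  exact hP a ha

/-- Good points of a chart with given ramification points. -/
def chartSet (i j : Fin (d + 1)) (P : Fin n → k) : Set (Idx n d → k) :=
  {z | Good e z ∧ (fun l => z (Sum.inl l)) = P ∧ ∀ x ∈ eqns e k i j z, x = 0}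

theorem chart_finite (he : ∀ l, 1 ≤ e l) (hp : ∀ l, ¬ p ∣ e l) (hsum : (∑ i, e i) + 2 = 2 * d + n) (i j : Fin (d + 1)) :
    ∃ Φ : MvPolynomial (Fin n) k, Φ ≠ 0 ∧ ∀ P, MvPolynomial.eval P Φ ≠ 0 → (chartSet e i j P).Finite ∧
      ∀ z ∈ chartSet e i j P, ∀ a b : Fin n, a ≠ b → cross z a b ≠ 0 := by
  classical
  let R := MvPolynomial (Idx n d) k
  have hev : ∀ (z : Idx n d → k), MvPolynomial.eval z ∘ gen k n d = z := fun z => funext fun s => MvPolynomial.eval_X (f := z) s
  have heq : ∀ (z : Idx n d → k), (∀ x ∈ eqns e k i j z, x = 0) →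
      eqns e R i j (gen k n d) ⊆ RingHom.ker (MvPolynomial.eval z) := by
    intro z hz x hx
    rw [SetLike.mem_coe, RingHom.mem_ker]
    have hg : ∀ s, MvPolynomial.eval z (gen k n d s) = z s := congrFun (hev z)
    rcases hx with (rfl | rfl | rfl | rfl) | ⟨lm, rfl⟩
    · rw [map_sub, map_one]; exact hz _ (Or.inl (Or.inl (by simp [hg])))
    · exact hz _ (Or.inl (Or.inr (Or.inl (by simp [hg]))))
    · exact hz _ (Or.inl (Or.inr (Or.inr (Or.inl (by simp [hg])))))
    · rw [map_sub, map_one]; exact hz _ (Or.inl (Or.inr (Or.inr (Or.inr (by simp [hg])))))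
    · rw [localCoeff_map, hev]; exact hz _ (Or.inr ⟨lm, rfl⟩)
  have hfin : ∀ J : Ideal R, (J.minimalPrimes).Finite := fun J => Ideal.finite_minimalPrimes_of_isNoetherianRing _ J
  let J := Ideal.span (eqns e R i j (gen k n d))
  let S0 := (hfin J).toFinset
  let S1 := (Finset.univ : Finset (Fin n × Fin n)).sigma fun ab => (hfin (J ⊔ Ideal.span {cross (gen k n d) ab.1 ab.2})).toFinset
  obtain ⟨Φ₀, hΦ₀, h₀⟩ := exists_avoid (k := k) S0
    (fun q P => {z | Good e z ∧ (fun l => z (Sum.inl l)) = P ∧ q ≤ RingHom.ker (MvPolynomial.eval z)}.Finite) fun q hq => by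
    have hqm := (Set.Finite.mem_toFinset _).mp hq
    haveI : q.IsPrime := hqm.1.1
    by_cases hg : ∃ z : Idx n d → k, Good e z ∧ q ≤ RingHom.ker (MvPolynomial.eval z)
    · obtain ⟨z, hgz, hz⟩ := hg
      obtain ⟨hc, -⟩ := component (k := k) (p := p) e he hp hsum i j q (fun x hx => hqm.1.2 (Ideal.subset_span hx)) z hz hgz
      choose h hne hh using hc
      let g := fun c => MvPolynomial.optionEquivLeft k (Fin n) (h c)
      have hg0 : ∀ c, g c ≠ 0 := fun c => (map_ne_zero_iff _ (AlgEquiv.injective _)).mpr (hne c)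
      refine ⟨∏ c, (g c).leadingCoeff, Finset.prod_ne_zero_iff.mpr fun c _ => leadingCoeff_ne_zero.mpr (hg0 c), fun P hP => ?_⟩
      rw [map_prod, Finset.prod_ne_zero_iff] at hP
      refine (Set.Finite.pi' (t := fun s : Idx n d => Sum.elim (fun l => ({P l} : Set k))
        (fun c => {x | ((g c).map (MvPolynomial.eval P)).eval x = 0}) s) fun s => ?_).subset ?_
      · rcases s with l | c
        · exact Set.finite_singleton _
        · exact finite_setOf_isRoot (fun h0 => hP c (Finset.mem_univ c) (by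
            rw [leadingCoeff, ← coeff_map, h0, coeff_zero]))
      · rintro w ⟨-, hwP, hw⟩ (l | c)
        · exact congrFun hwP l
        · show ((g c).map (MvPolynomial.eval P)).eval (w (Sum.inr c)) = 0
          rw [eval_option, ← hh c w hw, hwP]
    · refine ⟨1, one_ne_zero, fun P _ => Set.Finite.subset Set.finite_empty ?_⟩
      rintro w ⟨hw, -, hwq⟩
      exact hg ⟨w, hw, hwq⟩
  obtain ⟨Φ₁, hΦ₁, h₁⟩ := exists_avoid (k := k) S1
    (fun x P => x.1.1 ≠ x.1.2 → ∀ z : Idx n d → k, Good e z → (fun l => z (Sum.inl l)) = P →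
      ¬ x.2 ≤ RingHom.ker (MvPolynomial.eval z)) fun x hx => by
    have hqm := (Set.Finite.mem_toFinset _).mp (Finset.mem_sigma.mp hx).2
    haveI : x.2.IsPrime := hqm.1.1
    by_cases hg : x.1.1 ≠ x.1.2 ∧ ∃ z : Idx n d → k, Good e z ∧ x.2 ≤ RingHom.ker (MvPolynomial.eval z)
    · obtain ⟨hab, z, hgz, hz⟩ := hg
      obtain ⟨-, hc⟩ := component (k := k) (p := p) e he hp hsum i j x.2
        (fun y hy => hqm.1.2 (Ideal.mem_sup_left (Ideal.subset_span hy))) z hz hgz
      obtain ⟨h, hne, hh⟩ := hc x.1.1 x.1.2 hab (hqm.1.2 (Ideal.mem_sup_right (Ideal.mem_span_singleton_self _)))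
      exact ⟨h, hne, fun P hP _ w _ hwP hw => hP (hwP ▸ hh w hw)⟩
    · exact ⟨1, one_ne_zero, fun P _ hab w hw _ hwq => hg ⟨hab, w, hw, hwq⟩⟩
  refine ⟨Φ₀ * Φ₁, mul_ne_zero hΦ₀ hΦ₁, fun P hP => ?_⟩
  rw [map_mul, mul_ne_zero_iff] at hP
  have hle : ∀ z ∈ chartSet e i j P, J ≤ RingHom.ker (MvPolynomial.eval z) := fun z hz => Ideal.span_le.mpr (heq z hz.2.2)
  refine ⟨((S0.finite_toSet.biUnion fun q hq => h₀ P hP.1 q hq)).subset fun z hz => ?_, fun z hz a b hab hcr => ?_⟩
  · haveI := RingHom.ker_isPrime (MvPolynomial.eval z : R →+* k)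
    obtain ⟨q, hq, hqz⟩ := Ideal.exists_minimalPrimes_le (hle z hz)
    exact Set.mem_biUnion ((Set.Finite.mem_toFinset _).mpr hq) ⟨hz.1, hz.2.1, hqz⟩
  · haveI := RingHom.ker_isPrime (MvPolynomial.eval z : R →+* k)
    have : J ⊔ Ideal.span {cross (gen k n d) a b} ≤ RingHom.ker (MvPolynomial.eval z) := by
      refine sup_le (hle z hz) (Ideal.span_le.mpr (Set.singleton_subset_iff.mpr ?_))
      rw [SetLike.mem_coe, RingHom.mem_ker, ← hcr]
      simp only [cross, map_sub, map_mul, ← Polynomial.eval₂_at_apply, ← Polynomial.eval_map, polyOf_map, hev]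
      simp [gen]
    obtain ⟨q, hq, hqz⟩ := Ideal.exists_minimalPrimes_le this
    exact h₁ P hP.2 ⟨(a, b), q⟩ (Finset.mem_sigma.mpr ⟨Finset.mem_univ _, (Set.Finite.mem_toFinset _).mpr hq⟩) hab z hz.1
      hz.2.1 hqz

omit [CharP k p] in
/-- Every pencil lies in a chart. -/
theorem exists_chart (P : Fin n → k) (hP : Function.Injective P) (V : Submodule k k[X])
    (hV : V ∈ W4c1limliniiii.ramMaps d P e) :
    ∃ (i j : Fin (d + 1)), ∃ z ∈ chartSet e i j P, Submodule.span k {polyOf z 0, polyOf z 1} = V := by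
  classical
  obtain ⟨⟨hVd, hV2, ⟨s₀, hs₀, hs₀d⟩, hbase⟩, ⟨F', hF', G', hG', hW'⟩, hram⟩ := hV
  haveI : FiniteDimensional k V := .of_finrank_eq_succ hV2
  let b := Module.finBasisOfFinrankEq k V hV2
  have hne : ∀ r, (b r : k[X]) ≠ 0 := fun r h => b.ne_zero r (Subtype.ext h)
  have hdeg : ∀ s ∈ V, ∀ m : ℕ, s.coeff m ≠ 0 → m < d + 1 := fun s hs m hm => by
    have := mem_degreeLE.mp (hVd hs)
    have h2 := (le_degree_of_ne_zero hm).trans this
    exact Nat.lt_succ_of_le (WithBot.coe_le_coe.mp h2)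
  obtain ⟨i, hi⟩ := support_nonempty.mpr (hne 0)
  rw [mem_support_iff] at hi
  let F₁ : k[X] := C ((b 0 : k[X]).coeff i)⁻¹ * b 0
  let G₁ : k[X] := (b 1 : k[X]) - C ((b 1 : k[X]).coeff i) * F₁
  have hF₁V : F₁ ∈ V := by simp only [F₁, ← smul_eq_C_mul]; exact V.smul_mem _ (b 0).2
  have hG₁V : G₁ ∈ V := by simp only [G₁, ← smul_eq_C_mul]; exact V.sub_mem (b 1).2 (V.smul_mem _ hF₁V)
  have hG₁ : G₁ ≠ 0 := fun h => by
    have h2 := congrArg (fun x : V => b.repr x 1) (show b 1 = ((b 1 : k[X]).coeff i * ((b 0 : k[X]).coeff i)⁻¹) • b 0 from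
      Subtype.ext (by
        rw [Submodule.coe_smul, smul_eq_C_mul, map_mul]
        linear_combination h))
    simp at h2
  obtain ⟨j, hj⟩ := support_nonempty.mpr hG₁
  rw [mem_support_iff] at hj
  have hF₁i : F₁.coeff i = 1 := by simp [F₁, inv_mul_cancel₀ hi]
  have hG₁i : G₁.coeff i = 0 := by simp [G₁, hF₁i]
  let G : k[X] := C (G₁.coeff j)⁻¹ * G₁
  let F : k[X] := F₁ - C (F₁.coeff j) * G
  have hGV : G ∈ V := by simp only [G, ← smul_eq_C_mul]; exact V.smul_mem _ hG₁V
  have hFV : F ∈ V := by simp only [F, ← smul_eq_C_mul]; exact V.sub_mem hF₁V (V.smul_mem _ hGV)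
  have hGj : G.coeff j = 1 := by simp [G, inv_mul_cancel₀ hj]
  have hGi : G.coeff i = 0 := by simp [G, hG₁i]
  have hFi : F.coeff i = 1 := by simp [F, hF₁i, hGi]
  have hFj : F.coeff j = 0 := by simp [F, hGj]
  let z : Idx n d → k := Sum.elim P fun c => if c.1 = 0 then F.coeff c.2 else G.coeff c.2
  have hpoly : ∀ {s : k[X]}, s ∈ V → ∑ m : Fin (d + 1), C (s.coeff m) * X ^ (m : ℕ) = s := fun {s} hs => by
    ext m
    rw [finsetSum_coeff]
    simp only [coeff_C_mul_X_pow]
    by_cases hm : m < d + 1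
    · rw [Finset.sum_eq_single (⟨m, hm⟩ : Fin (d + 1)) (fun x _ hx => if_neg fun h => hx (Fin.ext h.symm))
        (fun h => absurd (Finset.mem_univ _) h), if_pos rfl]
    · rw [Finset.sum_eq_zero fun x _ => if_neg fun h => hm (by rw [h]; exact x.2)]
      by_contra h
      exact hm (hdeg s hs m (Ne.symm h))
  have hz0 : polyOf z 0 = F := by simpa [polyOf, z] using hpoly hFV
  have hz1 : polyOf z 1 = G := by simpa [polyOf, z] using hpoly hGV
  have hspan : Submodule.span k {F, G} = V := by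
    refine Submodule.eq_of_le_of_finrank_eq (Submodule.span_le.mpr (Set.insert_subset hFV (Set.singleton_subset_iff.mpr hGV))) ?_
    have hli : LinearIndependent k ![F, G] := LinearIndependent.pair_iff.mpr fun s t h => by
      have h1 := congrArg (fun p : k[X] => p.coeff i) h
      have h2 := congrArg (fun p : k[X] => p.coeff j) h
      simp [hFi, hGi] at h1
      simp [hFj, hGj] at h2
      exact ⟨h1, h2⟩
    have := finrank_span_eq_card hli
    rw [Fintype.card_fin, Matrix.range_cons, Matrix.range_cons, Matrix.range_empty, Set.union_empty, Set.singleton_union] at this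
    rw [hV2]; exact this
  have hmem : ∀ s ∈ V, ∃ a c : k, s = C a * F + C c * G := fun s hs => by
    rw [← hspan, Submodule.mem_span_pair] at hs
    obtain ⟨a, c, rfl⟩ := hs
    exact ⟨a, c, by rw [smul_eq_C_mul, smul_eq_C_mul]⟩
  have hb : ∀ l, ¬ (F.eval (P l) = 0 ∧ G.eval (P l) = 0) := fun l ⟨h1, h2⟩ => by
    obtain ⟨s, hs, hne'⟩ := hbase (P l)
    obtain ⟨a, c, rfl⟩ := hmem s hs
    simp [h1, h2] at hne'
  have hme : ∀ l, member z l = C (G.eval (P l)) * F - C (F.eval (P l)) * G := fun l => by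
    simp only [member, hz0, hz1]; rfl
  have hmV : ∀ l, member z l ∈ V := fun l => by
    rw [hme, ← smul_eq_C_mul, ← smul_eq_C_mul]; exact V.sub_mem (V.smul_mem _ hFV) (V.smul_mem _ hGV)
  have hm0 : ∀ l, member z l ≠ 0 := fun l h => by
    rw [hme] at h
    have h1 := congrArg (fun p : k[X] => p.coeff i) h
    have h2 := congrArg (fun p : k[X] => p.coeff j) h
    simp [hFi, hGi] at h1
    simp [hFj, hGj] at h2
    exact hb l ⟨h2, h1⟩
  have he2 : ∀ l, e l ≠ 0 → e l ≤ (member z l).rootMultiplicity (P l) := fun l hel => by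
    obtain ⟨⟨s, hs, hs0, hsm⟩, -⟩ := hram l
    obtain ⟨a, c, rfl⟩ := hmem s hs
    have hroot : (C a * F + C c * G).eval (P l) = 0 :=
      ((rootMultiplicity_pos hs0).mp (lt_of_lt_of_le (Nat.pos_of_ne_zero hel) hsm))
    simp only [eval_add, eval_mul, eval_C] at hroot
    obtain ⟨t, ht⟩ : ∃ t, C a * F + C c * G = C t * member z l := by
      by_cases hG0 : G.eval (P l) = 0
      · have hF0 : F.eval (P l) ≠ 0 := fun h => hb l ⟨h, hG0⟩
        refine ⟨-c / F.eval (P l), ?_⟩
        have ha : a = 0 := by simpa [hG0, hF0] using hroot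
        have h1 : C (-c / F.eval (P l)) * C (F.eval (P l)) = -C c := by rw [← C_mul, div_mul_cancel₀ _ hF0, map_neg]
        rw [hme, hG0, ha, map_zero]
        linear_combination G * h1
      · refine ⟨a / G.eval (P l), ?_⟩
        have h1 : C (a / G.eval (P l)) * C (G.eval (P l)) = C a := by rw [← C_mul, div_mul_cancel₀ _ hG0]
        have h2 : C (a / G.eval (P l)) * C (F.eval (P l)) = -C c := by
          rw [← C_mul, ← map_neg]; congr 1; field_simp; linear_combination hroot
        rw [hme]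
        linear_combination -F * h1 + G * h2
    rw [ht] at hsm hs0
    rw [le_rootMultiplicity_iff hs0] at hsm
    rw [le_rootMultiplicity_iff (hm0 l)]
    have ht0 : t ≠ 0 := fun h => hs0 (by rw [h, map_zero, zero_mul])
    exact (isUnit_C.mpr (isUnit_iff_ne_zero.mpr ht0)).dvd_mul_left.mp hsm
  have hexact : ∀ l, localCoeff z l (e l) ≠ 0 ∧ ∀ m < e l, localCoeff z l m = 0 := fun l => by
    have hlow : ∀ m < e l, localCoeff z l m = 0 := fun m hm =>
      (pow_dvd_iff_taylor _ _ _).mp ((le_rootMultiplicity_iff (hm0 l)).mp (he2 l (by omega))) m hm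
    refine ⟨fun h => ?_, hlow⟩
    have := (hram l).2 _ (hmV l) (hm0 l)
    have h2 : e l + 1 ≤ (member z l).rootMultiplicity (P l) := by
      rw [le_rootMultiplicity_iff (hm0 l)]
      exact (pow_dvd_iff_taylor (z (Sum.inl l)) _ _).mpr fun m hm => by
        rcases Nat.lt_succ_iff_lt_or_eq.mp hm with h' | rfl
        · exact hlow m h'
        · exact h
    omega
  refine ⟨⟨i, hdeg _ hFV _ (by rw [hFi]; exact one_ne_zero)⟩, ⟨j, hdeg _ hGV _ (by rw [hGj]; exact one_ne_zero)⟩, z,
    ⟨⟨?_, hP, ?_, ?_, fun l => (hexact l).1⟩, rfl, ?_⟩, by rw [hz0, hz1, hspan]⟩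
  · rw [hz0, hz1]
    intro h
    obtain ⟨a, c, rfl⟩ := hmem F' hF'
    obtain ⟨a', c', rfl⟩ := hmem G' hG'
    refine hW' ?_
    rw [show wronskian (C a * F + C c * G) (C a' * F + C c' * G) = C (a * c' - a' * c) * wronskian F G by
      simp only [wronskian, derivative_add, derivative_C_mul, map_sub, map_mul]; ring, h, mul_zero]
  · intro l; rw [hz0, hz1]; exact hb l
  · rw [hz0, hz1]
    by_contra h
    push Not at h
    obtain ⟨a, c, rfl⟩ := hmem s₀ hs₀
    have : (C a * F + C c * G).coeff d = 0 := by simp [h.1, h.2]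
    by_cases h0 : C a * F + C c * G = 0
    · rw [h0, natDegree_zero] at hs₀d
      subst hs₀d
      have hi0 := hdeg _ hFV _ (by rw [hFi]; exact one_ne_zero)
      have : i = 0 := by omega
      subst this
      exact one_ne_zero (hFi.symm.trans h.1)
    · exact leadingCoeff_ne_zero.mpr h0 (by rw [leadingCoeff, hs₀d]; exact this)
  · rintro x ((rfl | rfl | rfl | rfl) | ⟨lm, rfl⟩)
    · simp [z, hFi]
    · simp [z, hFj]
    · simp [z, hGi]
    · simp [z, hGj]
    · exact (hexact lm.1).2 _ lm.2.2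

/-- Generic finiteness, and separation of points; points of index one are allowed. -/
theorem generic_finite_one (h1 : ∀ l, 1 ≤ e l) (hp : ∀ l, ¬ p ∣ e l) (hsum : (∑ i, e i) + 2 = 2 * d + n) :
    ∃ Φ : MvPolynomial (Fin n) k, Φ ≠ 0 ∧ ∀ P : Fin n → k, MvPolynomial.eval P Φ ≠ 0 →
      (W4c1limliniiii.ramMaps d P e).Finite ∧
        ∀ V ∈ W4c1limliniiii.ramMaps d P e, ∀ i j : Fin n, i ≠ j →
          ∀ s ∈ V, (s.IsRoot (P i) ∧ s.IsRoot (P j)) → s = 0 := by
  classical
  obtain ⟨Φ, hΦ, h⟩ := exists_avoid (k := k) (Finset.univ : Finset (Fin (d + 1) × Fin (d + 1)))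
    (fun ij P => (chartSet e ij.1 ij.2 P).Finite ∧ ∀ z ∈ chartSet e ij.1 ij.2 P, ∀ a b : Fin n, a ≠ b → cross z a b ≠ 0)
    fun ij _ => chart_finite e h1 hp hsum ij.1 ij.2
  refine ⟨Φ * ∏ ab ∈ (Finset.univ : Finset (Fin n × Fin n)).filter (fun ab => ab.1 ≠ ab.2),
    (MvPolynomial.X ab.1 - MvPolynomial.X ab.2), mul_ne_zero hΦ (Finset.prod_ne_zero_iff.mpr fun ab hab h0 => ?_), fun P hP => ?_⟩
  · exact (Finset.mem_filter.mp hab).2 (MvPolynomial.X_injective (sub_eq_zero.mp h0))
  rw [map_mul, mul_ne_zero_iff, map_prod, Finset.prod_ne_zero_iff] at hP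
  have hinj : Function.Injective P := fun a b hab => by
    by_contra hne
    exact hP.2 (a, b) (Finset.mem_filter.mpr ⟨Finset.mem_univ _, hne⟩) (by simp [hab])
  refine ⟨(Set.finite_iUnion fun ij : Fin (d + 1) × Fin (d + 1) => ((h P hP.1 ij (Finset.mem_univ _)).1.image
    fun z => Submodule.span k {polyOf z 0, polyOf z 1})).subset fun V hV => ?_, fun V hV a b hab s hs hroot => ?_⟩
  · obtain ⟨i, j, z, hz, hzV⟩ := exists_chart e P hinj V hV
    exact Set.mem_iUnion.mpr ⟨(i, j), z, hz, hzV⟩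
  · obtain ⟨i, j, z, hz, rfl⟩ := exists_chart e P hinj V hV
    have hc := (h P hP.1 (i, j) (Finset.mem_univ _)).2 z hz a b hab
    obtain ⟨x, y, rfl⟩ := Submodule.mem_span_pair.mp hs
    obtain ⟨h1, h2⟩ := hroot
    simp only [IsRoot.def, eval_add, eval_smul, smul_eq_mul] at h1 h2
    rw [← congrFun hz.2.1 a] at h1
    rw [← congrFun hz.2.1 b] at h2
    unfold cross at hc
    have hx : x = 0 := by
      refine (mul_eq_zero.mp (?_ : x * _ = 0)).resolve_right hc
      linear_combination (polyOf z 1).eval (z (Sum.inl b)) * h1 - (polyOf z 1).eval (z (Sum.inl a)) * h2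
    have hy : y = 0 := by
      refine (mul_eq_zero.mp (?_ : y * _ = 0)).resolve_right hc
      linear_combination -(polyOf z 0).eval (z (Sum.inl b)) * h1 + (polyOf z 0).eval (z (Sum.inl a)) * h2
    simp [hx, hy]

/-- Generic finiteness, and separation of points. -/
theorem generic_finite (he : W4c1limliniiii.Admissible p d e) :
    ∃ Φ : MvPolynomial (Fin n) k, Φ ≠ 0 ∧ ∀ P : Fin n → k, MvPolynomial.eval P Φ ≠ 0 →
      (W4c1limliniiii.ramMaps d P e).Finite ∧
        ∀ V ∈ W4c1limliniiii.ramMaps d P e, ∀ i j : Fin n, i ≠ j →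
          ∀ s ∈ V, (s.IsRoot (P i) ∧ s.IsRoot (P j)) → s = 0 :=
  generic_finite_one e (fun l => (one_le_two).trans (he.1 l).1) (fun l => (he.1 l).2.2) he.2

end Groth.Agent.W4RamLib
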