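import Groth.Agent.W4RamLib.Generic

/-!
The symmetry `(e_i, e_j) ↦ (p - e_i, p - e_j)` of the counts of maps of the line: multiply a map taking `P i` to
`0` and `P j` to `∞` by `((X - P j) / (X - P i)) ^ p`.
-/

set_option autoImplicit false
universe u

namespace Groth.Agent.W4RamLib

open Polynomial W4c1limliniiii

variable {k : Type u} [Field k]

lemma span_pair_eq {V : Submodule k k[X]} {s t : k[X]} (hV : Module.finrank k V = 2) (hs : s ∈ V) (ht : t ∈ V)
    (h : ∀ α β : k, α • s + β • t = 0 → α = 0 ∧ β = 0) : V = Submodule.span k {s, t} := by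
  haveI : FiniteDimensional k V := FiniteDimensional.of_finrank_eq_succ hV
  refine (Submodule.eq_of_le_of_finrank_eq ?_ ?_).symm
  · exact Submodule.span_le.mpr (Set.insert_subset hs (Set.singleton_subset_iff.mpr ht))
  · have hli : LinearIndependent k ![s, t] := LinearIndependent.pair_iff.mpr h
    have := finrank_span_eq_card hli
    rw [Matrix.range_cons, Matrix.range_cons, Matrix.range_empty, Set.union_empty, Set.singleton_union] at this
    rw [this, hV, Fintype.card_fin]

lemma wronskian_mul_left (c f g : k[X]) : wronskian (c * f) (c * g) = c * c * wronskian f g := by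
  simp only [wronskian, derivative_mul]; ring

lemma wronskian_mul_const {A B : k[X]} (hA : derivative A = 0) (hB : derivative B = 0) (f g : k[X]) :
    wronskian (A * f) (B * g) = A * B * wronskian f g := by
  simp only [wronskian, derivative_mul, hA, hB]; ring

/-- `V'` is the transform of `V` at the points `x`, `y` of indices `a`, `b`. -/
def Tr (p : ℕ) (x y : k) (a b : ℕ) (V V' : Submodule k k[X]) : Prop :=
  ∃ u w : k[X], u.eval x ≠ 0 ∧ u.eval y ≠ 0 ∧ w.eval x ≠ 0 ∧ w.eval y ≠ 0 ∧
    V = Submodule.span k {(X - C x) ^ a * u, (X - C y) ^ b * w} ∧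
    V' = Submodule.span k {(X - C y) ^ (p - b) * u, (X - C x) ^ (p - a) * w}

variable {p : ℕ} {x y : k} {a b : ℕ} {V V' V'' : Submodule k k[X]}

lemma Tr.symm (ha : a ≤ p) (hb : b ≤ p) (h : Tr p x y a b V V') : Tr p x y (p - a) (p - b) V' V := by
  obtain ⟨u, w, h1, h2, h3, h4, hV, hV'⟩ := h
  refine ⟨w, u, h3, h4, h1, h2, by rw [hV', Set.pair_comm], ?_⟩
  rw [hV, Set.pair_comm, Nat.sub_sub_self hb, Nat.sub_sub_self ha]

lemma Tr.le (hxy : x ≠ y) (ha : 0 < a) (hb : 0 < b) (h : Tr p x y a b V V') (h' : Tr p x y a b V V'') : V'' ≤ V' := by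
  obtain ⟨u, w, h1, h2, h3, h4, hV, rfl⟩ := h
  obtain ⟨u', w', -, -, -, -, hV2, rfl⟩ := h'
  have hu : (X - C x) ^ a * u' ∈ V := hV2 ▸ Submodule.subset_span (Set.mem_insert _ _)
  have hw : (X - C y) ^ b * w' ∈ V := hV2 ▸ Submodule.subset_span (Set.mem_insert_of_mem _ rfl)
  rw [hV, Submodule.mem_span_pair] at hu hw
  obtain ⟨α, β, hαβ⟩ := hu
  obtain ⟨γ, δ, hγδ⟩ := hw
  have hβ : β = 0 := by
    have := congrArg (eval x) hαβ
    simp [zero_pow ha.ne', sub_ne_zero.mpr hxy, h3] at this
    exact this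
  have hγ : γ = 0 := by
    have := congrArg (eval y) hγδ
    simp [zero_pow hb.ne', sub_ne_zero.mpr hxy.symm, h2] at this
    exact this
  subst hβ hγ
  rw [zero_smul, add_zero, ← mul_smul_comm] at hαβ
  rw [zero_smul, zero_add, ← mul_smul_comm] at hγδ
  have hu' := mul_left_cancel₀ (pow_ne_zero _ (X_sub_C_ne_zero x)) hαβ
  have hw' := mul_left_cancel₀ (pow_ne_zero _ (X_sub_C_ne_zero y)) hγδ
  subst hu' hw'
  refine Submodule.span_le.mpr (Set.insert_subset ?_ (Set.singleton_subset_iff.mpr ?_))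
  · rw [SetLike.mem_coe, mul_smul_comm]; exact Submodule.smul_mem _ _ (Submodule.subset_span (Set.mem_insert _ _))
  · rw [SetLike.mem_coe, mul_smul_comm]; exact Submodule.smul_mem _ _ (Submodule.subset_span (Set.mem_insert_of_mem _ rfl))

lemma Tr.unique (hxy : x ≠ y) (ha : 0 < a) (hb : 0 < b) (h : Tr p x y a b V V') (h' : Tr p x y a b V V'') : V'' = V' :=
  le_antisymm (h.le hxy ha hb h') (h'.le hxy ha hb h)

variable {d n : ℕ} {P : Fin n → k} {e : Fin n → ℕ} {i j : Fin n}

lemma exists_tr (hP : Function.Injective P) (hij : i ≠ j) (h1 : ∀ l, 1 ≤ e l) (hV : V ∈ ramMaps d P e)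
    (hsep : ∀ s ∈ V, (s.IsRoot (P i) ∧ s.IsRoot (P j)) → s = 0) : ∃ V', Tr p (P i) (P j) (e i) (e j) V V' := by
  obtain ⟨⟨-, hrk, -, -⟩, -, hram⟩ := hV
  have key : ∀ l l' : Fin n, ((l = i ∧ l' = j) ∨ (l = j ∧ l' = i)) →
      ∃ u, (X - C (P l)) ^ e l * u ∈ V ∧ u.eval (P l) ≠ 0 ∧ u.eval (P l') ≠ 0 := by
    intro l l' hll
    obtain ⟨⟨s, hs, hs0, hsm⟩, hmax⟩ := hram l
    obtain ⟨u, rfl⟩ := (le_rootMultiplicity_iff hs0).mp hsm
    refine ⟨u, hs, fun h => ?_, fun h => ?_⟩
    · obtain ⟨v, rfl⟩ := dvd_iff_isRoot.mpr (show u.IsRoot (P l) from h)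
      have h2 := hmax _ hs hs0
      have h3 : e l + 1 ≤ ((X - C (P l)) ^ e l * ((X - C (P l)) * v)).rootMultiplicity (P l) :=
        (le_rootMultiplicity_iff hs0).mpr ⟨v, by rw [pow_succ]; ring⟩
      omega
    · refine hs0 (hsep _ hs ?_)
      have r1 : ((X - C (P l)) ^ e l * u).IsRoot (P l) := by
        simp [zero_pow (show e l ≠ 0 by have := h1 l; omega)]
      have r2 : ((X - C (P l)) ^ e l * u).IsRoot (P l') := by simp [h]
      rcases hll with ⟨rfl, rfl⟩ | ⟨rfl, rfl⟩
      · exact ⟨r1, r2⟩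
      · exact ⟨r2, r1⟩
  obtain ⟨u, hu, hux, huy⟩ := key i j (Or.inl ⟨rfl, rfl⟩)
  obtain ⟨w, hw, hwy, hwx⟩ := key j i (Or.inr ⟨rfl, rfl⟩)
  refine ⟨_, u, w, hux, huy, hwx, hwy, span_pair_eq hrk hu hw fun α β h => ?_, rfl⟩
  have hne : P i - P j ≠ 0 := sub_ne_zero.mpr (hP.ne hij)
  have hne' : P j - P i ≠ 0 := sub_ne_zero.mpr (hP.ne hij.symm)
  have e1 := congrArg (eval (P i)) h
  have e2 := congrArg (eval (P j)) h
  simp [zero_pow (show e i ≠ 0 by have := h1 i; omega), hne, hwx] at e1
  simp [zero_pow (show e j ≠ 0 by have := h1 j; omega), hne', huy] at e2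
  exact ⟨e2, e1⟩

lemma tr_mem [Fact p.Prime] [CharP k p] (hP : Function.Injective P) (hij : i ≠ j) (h1 : ∀ l, 1 ≤ e l)
    (hlt : ∀ l, e l < p) (hV : V ∈ ramMaps d P e) (h : Tr p (P i) (P j) (e i) (e j) V V') :
    V' ∈ ramMaps (d + p - e i - e j) P (Function.update (Function.update e i (p - e i)) j (p - e j)) := by
  classical
  obtain ⟨⟨hle, hrk, ⟨s₀, hs₀, hs₀d⟩, hbase⟩, ⟨F', hF', G', hG', hW'⟩, hram⟩ := hV
  obtain ⟨u, w, hux, huy, hwx, hwy, hVe, rfl⟩ := h
  set A := X - C (P i) with hA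
  set B := X - C (P j) with hB
  set a := e i with ha
  set b := e j with hb
  have hap : a < p := hlt i
  have hbp : b < p := hlt j
  have ha1 : 1 ≤ a := h1 i
  have hb1 : 1 ≤ b := h1 j
  have hA0 : A ≠ 0 := X_sub_C_ne_zero _
  have hB0 : B ≠ 0 := X_sub_C_ne_zero _
  have hu0 : u ≠ 0 := fun h => hux (by simp [h])
  have hw0 : w ≠ 0 := fun h => hwx (by simp [h])
  have hne : P i - P j ≠ 0 := sub_ne_zero.mpr (hP.ne hij)
  have hne' : P j - P i ≠ 0 := sub_ne_zero.mpr (hP.ne hij.symm)
  have hmem : ∀ s ∈ V, ∃ α β : k, s = α • (A ^ a * u) + β • (B ^ b * w) := fun s hs => by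
    rw [hVe, Submodule.mem_span_pair] at hs
    obtain ⟨α, β, rfl⟩ := hs
    exact ⟨α, β, rfl⟩
  have hmem' : ∀ s ∈ Submodule.span k {B ^ (p - b) * u, A ^ (p - a) * w},
      ∃ α β : k, s = α • (B ^ (p - b) * u) + β • (A ^ (p - a) * w) := fun s hs => by
    rw [Submodule.mem_span_pair] at hs
    obtain ⟨α, β, rfl⟩ := hs
    exact ⟨α, β, rfl⟩
  have hsu : A ^ a * u ∈ V := hVe ▸ Submodule.subset_span (Set.mem_insert _ _)
  have hsw : B ^ b * w ∈ V := hVe ▸ Submodule.subset_span (Set.mem_insert_of_mem _ rfl)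
  have hu' : B ^ (p - b) * u ∈ Submodule.span k {B ^ (p - b) * u, A ^ (p - a) * w} := Submodule.subset_span (Set.mem_insert _ _)
  have hw' : A ^ (p - a) * w ∈ Submodule.span k {B ^ (p - b) * u, A ^ (p - a) * w} :=
    Submodule.subset_span (Set.mem_insert_of_mem _ rfl)
  have evu : ∀ z, (B ^ (p - b) * u).eval z = (z - P j) ^ (p - b) * u.eval z := fun z => by simp [hB]
  have evw : ∀ z, (A ^ (p - a) * w).eval z = (z - P i) ^ (p - a) * w.eval z := fun z => by simp [hA]
  have hli : ∀ α β : k, α • (B ^ (p - b) * u) + β • (A ^ (p - a) * w) = 0 → α = 0 ∧ β = 0 := fun α β h => by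
    have e1 := congrArg (eval (P i)) h
    have e2 := congrArg (eval (P j)) h
    simp [evu, evw, zero_pow (show p - a ≠ 0 by omega), hne, hux] at e1
    simp [evu, evw, zero_pow (show p - b ≠ 0 by omega), hne', hwy] at e2
    exact ⟨e1, e2⟩
  have hdeg : ∀ (c : k) (m : ℕ) (v : k[X]), v ≠ 0 → ((X - C c) ^ m * v).natDegree = m + v.natDegree := fun c m v hv => by
    rw [natDegree_mul (pow_ne_zero _ (X_sub_C_ne_zero _)) hv, natDegree_pow, natDegree_X_sub_C, mul_one]
  have hVd : ∀ s ∈ V, s.natDegree ≤ d := fun s hs => natDegree_le_iff_degree_le.mpr (Polynomial.mem_degreeLE.mp (hle hs))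
  have hdu : a + u.natDegree ≤ d := hdeg (P i) a u hu0 ▸ hVd _ hsu
  have hdw : b + w.natDegree ≤ d := hdeg (P j) b w hw0 ▸ hVd _ hsw
  have du' : (B ^ (p - b) * u).natDegree = p - b + u.natDegree := hdeg _ _ _ hu0
  have dw' : (A ^ (p - a) * w).natDegree = p - a + w.natDegree := hdeg _ _ _ hw0
  have hp0 : (p : k) = 0 := CharP.cast_eq_zero k p
  have hderiv : ∀ c : k, derivative ((X - C c) ^ p) = 0 := fun c => by
    rw [derivative_pow, hp0, map_zero, zero_mul, zero_mul]
  refine ⟨⟨?_, ?_, ?_, ?_⟩, ⟨_, hu', _, hw', ?_⟩, fun l => ?_⟩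
  · refine Submodule.span_le.mpr (Set.insert_subset ?_ (Set.singleton_subset_iff.mpr ?_))
    · exact Polynomial.mem_degreeLE.mpr (natDegree_le_iff_degree_le.mp (by omega))
    · exact Polynomial.mem_degreeLE.mpr (natDegree_le_iff_degree_le.mp (by omega))
  · have hli' : LinearIndependent k ![B ^ (p - b) * u, A ^ (p - a) * w] := LinearIndependent.pair_iff.mpr hli
    have := finrank_span_eq_card hli'
    rwa [Matrix.range_cons, Matrix.range_cons, Matrix.range_empty, Set.union_empty, Set.singleton_union,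
      Fintype.card_fin] at this
  · obtain ⟨α, β, rfl⟩ := hmem _ hs₀
    have h3 : d ≤ max (a + u.natDegree) (b + w.natDegree) := by
      rw [← hs₀d, ← hdeg (P i) a u hu0, ← hdeg (P j) b w hw0]
      exact (natDegree_add_le _ _).trans (max_le_max (natDegree_smul_le _ _) (natDegree_smul_le _ _))
    rcases le_max_iff.mp h3 with h4 | h4
    · exact ⟨_, hu', by omega⟩
    · exact ⟨_, hw', by omega⟩
  · intro z
    by_contra hcon
    push Not at hcon
    have e1 := hcon _ hu'
    have e2 := hcon _ hw'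
    rw [evu] at e1; rw [evw] at e2
    by_cases hzi : z = P i
    · subst hzi; exact mul_ne_zero (pow_ne_zero _ hne) hux e1
    by_cases hzj : z = P j
    · subst hzj; exact mul_ne_zero (pow_ne_zero _ hne') hwy e2
    obtain ⟨s, hs, hsz⟩ := hbase z
    obtain ⟨α, β, rfl⟩ := hmem s hs
    have hu1 := (mul_eq_zero.mp e1).resolve_left (pow_ne_zero _ (sub_ne_zero.mpr hzj))
    have hw1 := (mul_eq_zero.mp e2).resolve_left (pow_ne_zero _ (sub_ne_zero.mpr hzi))
    exact hsz (by simp [hu1, hw1])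
  · intro h0
    refine hW' ?_
    obtain ⟨α, β, rfl⟩ := hmem F' hF'
    obtain ⟨γ, δ, rfl⟩ := hmem G' hG'
    have hbil : wronskian (α • (A ^ a * u) + β • (B ^ b * w)) (γ • (A ^ a * u) + δ • (B ^ b * w)) =
        C (α * δ - γ * β) * wronskian (A ^ a * u) (B ^ b * w) := by
      simp only [smul_eq_C_mul, wronskian, derivative_add, derivative_C_mul, map_sub, map_mul]; ring
    have hid : A ^ p * B ^ p * wronskian (A ^ a * u) (B ^ b * w) =
        A ^ a * B ^ b * (A ^ a * B ^ b) * wronskian (B ^ (p - b) * u) (A ^ (p - a) * w) := by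
      rw [← wronskian_mul_left]
      have e1 : A ^ a * B ^ b * (B ^ (p - b) * u) = B ^ p * (A ^ a * u) := by
        rw [show B ^ p = B ^ b * B ^ (p - b) by rw [← pow_add]; congr 1; omega]; ring
      have e2 : A ^ a * B ^ b * (A ^ (p - a) * w) = A ^ p * (B ^ b * w) := by
        rw [show A ^ p = A ^ a * A ^ (p - a) by rw [← pow_add]; congr 1; omega]; ring
      rw [e1, e2, wronskian_mul_const (hderiv _) (hderiv _)]
      ring
    rw [h0, mul_zero, mul_eq_zero, mul_eq_zero] at hid
    rw [hbil, (hid.resolve_left (not_or.mpr ⟨pow_ne_zero _ hA0, pow_ne_zero _ hB0⟩)), mul_zero]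
  · rcases eq_or_ne l j with rfl | hlj
    · rw [Function.update_self]
      refine ⟨⟨_, hu', fun h => (mul_ne_zero (pow_ne_zero _ hB0) hu0) h, ?_⟩, fun s hs hs0 => ?_⟩
      · exact (le_rootMultiplicity_iff (mul_ne_zero (pow_ne_zero _ hB0) hu0)).mpr (dvd_mul_right _ _)
      · obtain ⟨α, β, rfl⟩ := hmem' s hs
        by_cases hβ : β = 0
        · subst hβ
          rw [zero_smul, add_zero, ← mul_smul_comm] at hs0 ⊢
          rw [rootMultiplicity_mul hs0, rootMultiplicity_X_sub_C_pow,
            rootMultiplicity_eq_zero (show ¬ (α • u).IsRoot (P l) by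
              simp [huy]; rintro rfl; exact hs0 (by simp))]
          simp
        · rw [rootMultiplicity_eq_zero (show ¬ IsRoot _ (P l) by
            simp [evu, evw, zero_pow (show p - b ≠ 0 by omega), hne', hwy, hβ])]
          exact Nat.zero_le _
    rw [Function.update_of_ne hlj]
    rcases eq_or_ne l i with rfl | hli'
    · rw [Function.update_self]
      refine ⟨⟨_, hw', fun h => (mul_ne_zero (pow_ne_zero _ hA0) hw0) h, ?_⟩, fun s hs hs0 => ?_⟩
      · exact (le_rootMultiplicity_iff (mul_ne_zero (pow_ne_zero _ hA0) hw0)).mpr (dvd_mul_right _ _)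
      · obtain ⟨α, β, rfl⟩ := hmem' s hs
        by_cases hα : α = 0
        · subst hα
          rw [zero_smul, zero_add, ← mul_smul_comm] at hs0 ⊢
          rw [rootMultiplicity_mul hs0, rootMultiplicity_X_sub_C_pow,
            rootMultiplicity_eq_zero (show ¬ (β • w).IsRoot (P l) by
              simp [hwx]; rintro rfl; exact hs0 (by simp))]
          simp
        · rw [rootMultiplicity_eq_zero (show ¬ IsRoot _ (P l) by
            simp [evu, evw, zero_pow (show p - a ≠ 0 by omega), hne, hux, hα])]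
          exact Nat.zero_le _
    rw [Function.update_of_ne hli']
    set z := P l with hz
    have hzi : z - P i ≠ 0 := sub_ne_zero.mpr (hP.ne hli')
    have hzj : z - P j ≠ 0 := sub_ne_zero.mpr (hP.ne hlj)
    -- divisibility at `z` transfers
    have htrans : ∀ (m : ℕ), m ≤ p → ∀ α β : k,
        ((X - C z) ^ m ∣ α • (B ^ (p - b) * u) + β • (A ^ (p - a) * w) ↔
          (X - C z) ^ m ∣ (α * (z - P j) ^ p) • (A ^ a * u) + (β * (z - P i) ^ p) • (B ^ b * w)) := by
      intro m hm α β
      haveI : CharP k[X] p := inferInstance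
      have eP : ∀ c : k, (X - C c) ^ p = (X - C z) ^ p + C ((z - c) ^ p) := fun c => by
        rw [map_pow, ← add_pow_char, map_sub]; congr 1; ring
      have key : A ^ a * B ^ b * (α • (B ^ (p - b) * u) + β • (A ^ (p - a) * w)) =
          (α * (z - P j) ^ p) • (A ^ a * u) + (β * (z - P i) ^ p) • (B ^ b * w) +
            (X - C z) ^ p * (α • (A ^ a * u) + β • (B ^ b * w)) := by
        have e1 : B ^ b * B ^ (p - b) = (X - C z) ^ p + C ((z - P j) ^ p) := by
          rw [← pow_add, show b + (p - b) = p by omega, hB, eP]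
        have e2 : A ^ a * A ^ (p - a) = (X - C z) ^ p + C ((z - P i) ^ p) := by
          rw [← pow_add, show a + (p - a) = p by omega, hA, eP]
        simp only [smul_eq_C_mul, map_mul]
        linear_combination (C α * A ^ a * u) * e1 + (C β * B ^ b * w) * e2
      have hcop : IsCoprime ((X - C z) ^ m) (A ^ a * B ^ b) :=
        ((isCoprime_X_sub_C_of_isUnit_sub hzi.isUnit).pow).mul_right
          ((isCoprime_X_sub_C_of_isUnit_sub hzj.isUnit).pow)
      constructor
      · intro h
        have h2 := h.mul_left (A ^ a * B ^ b)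
        rw [key] at h2
        exact (dvd_add_left (dvd_mul_of_dvd_left (pow_dvd_pow _ hm) _)).mp h2
      · intro h
        refine hcop.dvd_of_dvd_mul_left ?_
        rw [key]
        exact dvd_add h (dvd_mul_of_dvd_left (pow_dvd_pow _ hm) _)
    have hVli : ∀ α β : k, α • (A ^ a * u) + β • (B ^ b * w) = 0 → α = 0 ∧ β = 0 := fun α β h => by
      have e1 := congrArg (eval (P i)) h
      have e2 := congrArg (eval (P j)) h
      simp [hA, hB, zero_pow (show a ≠ 0 by omega), hne, hwx] at e1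
      simp [hA, hB, zero_pow (show b ≠ 0 by omega), hne', huy] at e2
      exact ⟨e2, e1⟩
    obtain ⟨⟨s, hs, hs0, hsm⟩, hmax⟩ := hram l
    constructor
    · obtain ⟨α, β, rfl⟩ := hmem s hs
      refine ⟨(α * ((z - P j) ^ p)⁻¹) • (B ^ (p - b) * u) + (β * ((z - P i) ^ p)⁻¹) • (A ^ (p - a) * w),
        Submodule.add_mem _ (Submodule.smul_mem _ _ hu') (Submodule.smul_mem _ _ hw'), fun h => ?_, ?_⟩
      · obtain ⟨h5, h6⟩ := hli _ _ h
        simp [hzi, hzj] at h5 h6
        exact hs0 (by simp [h5, h6])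
      · rw [le_rootMultiplicity_iff (fun h => ?_), htrans _ (hlt l).le]
        · have := (le_rootMultiplicity_iff hs0).mp hsm
          simpa [hzi, hzj] using this
        · obtain ⟨h5, h6⟩ := hli _ _ h
          simp [hzi, hzj] at h5 h6
          exact hs0 (by simp [h5, h6])
    · intro s' hs' hs'0
      obtain ⟨α, β, rfl⟩ := hmem' s' hs'
      by_contra hgt
      have h5 := (le_rootMultiplicity_iff hs'0).mp (Nat.lt_iff_add_one_le.mp (lt_of_not_ge hgt))
      rw [htrans _ (hlt l)] at h5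
      have hmemV : (α * (z - P j) ^ p) • (A ^ a * u) + (β * (z - P i) ^ p) • (B ^ b * w) ∈ V :=
        V.add_mem (V.smul_mem _ hsu) (V.smul_mem _ hsw)
      by_cases h6 : (α * (z - P j) ^ p) • (A ^ a * u) + (β * (z - P i) ^ p) • (B ^ b * w) = 0
      · obtain ⟨h7, h8⟩ := hVli _ _ h6
        simp [hzi, hzj] at h7 h8
        exact hs'0 (by simp [h7, h8])
      · have := hmax _ hmemV h6
        have := (le_rootMultiplicity_iff h6).mpr h5
        simp only [hz] at *; omega

/-- The counts agree. -/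
theorem genericCount_symm [IsAlgClosed k] [Fact p.Prime] [CharP k p] (e : Fin n → ℕ)
    (he : W4c1limliniiii.Admissible p d e) (hlt : ∀ l, e l < p) (i j : Fin n) (hij : i ≠ j) (m : ℕ) :
    W4c1limliniiii.HasGenericCount (k := k) d e m ↔
      W4c1limliniiii.HasGenericCount (k := k) (d + p - e i - e j)
        (Function.update (Function.update e i (p - e i)) j (p - e j)) m := by
  classical
  set e' := Function.update (Function.update e i (p - e i)) j (p - e j) with he'
  set d' := d + p - e i - e j with hd'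
  have h1 : ∀ l, 1 ≤ e l := fun l => one_le_two.trans (he.1 l).1
  have hj' : e' j = p - e j := Function.update_self ..
  have hi' : e' i = p - e i := by rw [he', Function.update_of_ne hij, Function.update_self]
  have hl' : ∀ l, l ≠ i → l ≠ j → e' l = e l := fun l a b => by
    rw [he', Function.update_of_ne b, Function.update_of_ne a]
  have h1' : ∀ l, 1 ≤ e' l ∧ e' l < p := fun l => by
    by_cases hj : l = j
    · subst hj; rw [hj']; have := hlt l; have := h1 l; omega
    by_cases hi : l = i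
    · subst hi; rw [hi']; have := hlt l; have := h1 l; omega
    · rw [hl' l hi hj]; exact ⟨h1 l, hlt l⟩
  have hp' : ∀ l, ¬ p ∣ e' l := fun l h => by
    have := Nat.le_of_dvd (h1' l).1 h; have := (h1' l).2; omega
  have hsum' : (∑ l, e' l) + 2 = 2 * d' + n := by
    have h := he.2
    have key : ∀ l, e' l + ((if l = i then e i else 0) + (if l = j then e j else 0)) =
        e l + ((if l = i then p - e i else 0) + (if l = j then p - e j else 0)) := fun l => by
      by_cases hj : l = j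
      · subst hj; rw [hj', if_neg hij.symm, if_pos rfl, if_neg hij.symm, if_pos rfl]; omega
      by_cases hi : l = i
      · subst hi; rw [hi', if_pos rfl, if_neg hij, if_pos rfl, if_neg hij]; omega
      · rw [hl' l hi hj, if_neg hi, if_neg hj, if_neg hi, if_neg hj]
    have hs := Finset.sum_congr rfl fun l (_ : l ∈ (Finset.univ : Finset (Fin n))) => key l
    simp only [Finset.sum_add_distrib, Finset.sum_ite_eq', Finset.mem_univ, if_true] at hs
    have := (he.1 i).2.1; have := hlt j; have := hlt i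
    omega
  have hd : d' + p - e' i - e' j = d := by
    have := (he.1 i).2.1; have := hlt i; have := hlt j
    rw [hi', hj']; omega
  have hee : Function.update (Function.update e' i (p - e' i)) j (p - e' j) = e := funext fun l => by
    by_cases hj : l = j
    · subst hj; rw [Function.update_self, hj']; have := hlt l; omega
    by_cases hi : l = i
    · subst hi; rw [Function.update_of_ne hij, Function.update_self, hi']; have := hlt l; omega
    · rw [Function.update_of_ne hj, Function.update_of_ne hi, hl' l hi hj]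
  obtain ⟨Φ, hΦ, hfin⟩ := generic_finite_one (k := k) (p := p) e h1 (fun l => (he.1 l).2.2) he.2
  obtain ⟨Φ', hΦ', hfin'⟩ := generic_finite_one (k := k) (p := p) e' (fun l => (h1' l).1) hp' hsum'
  let Δ : MvPolynomial (Fin n) k := ∏ ab ∈ (Finset.univ : Finset (Fin n × Fin n)).filter (fun ab => ab.1 ≠ ab.2),
    (MvPolynomial.X ab.1 - MvPolynomial.X ab.2)
  have hΔ : Δ ≠ 0 := Finset.prod_ne_zero_iff.mpr fun ab hab h0 =>
    (Finset.mem_filter.mp hab).2 (MvPolynomial.X_injective (sub_eq_zero.mp h0))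
  have main : ∀ P : Fin n → k, MvPolynomial.eval P (Φ * Φ' * Δ) ≠ 0 →
      ((ramMaps d P e).Finite ∧ (ramMaps d' P e').Finite ∧
        Nat.card (ramMaps d P e) = Nat.card (ramMaps d' P e')) := by
    intro P hP
    rw [map_mul, map_mul, mul_ne_zero_iff, mul_ne_zero_iff] at hP
    obtain ⟨⟨hP1, hP2⟩, hP3⟩ := hP
    rw [map_prod, Finset.prod_ne_zero_iff] at hP3
    have hinj : Function.Injective P := fun a b hab => by
      by_contra hne
      exact hP3 (a, b) (Finset.mem_filter.mpr ⟨Finset.mem_univ _, hne⟩) (by simp [hab])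
    obtain ⟨hf, hs⟩ := hfin P hP1
    obtain ⟨hf', hs'⟩ := hfin' P hP2
    refine ⟨hf, hf', Nat.card_congr ?_⟩
    choose f hf using fun V : ramMaps d P e =>
      exists_tr (p := p) hinj hij h1 V.2 fun s hsV => hs V.1 V.2 i j hij s hsV
    choose g hg using fun V : ramMaps d' P e' =>
      exists_tr (p := p) hinj hij (fun l => (h1' l).1) V.2 fun s hsV => hs' V.1 V.2 i j hij s hsV
    have hfm : ∀ V, f V ∈ ramMaps d' P e' := fun V => tr_mem hinj hij h1 hlt V.2 (hf V)
    have hgm : ∀ V, g V ∈ ramMaps d P e := fun V => by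
      have := tr_mem hinj hij (fun l => (h1' l).1) (fun l => (h1' l).2) V.2 (hg V)
      rwa [hd, hee] at this
    have hxy : P i ≠ P j := hinj.ne hij
    refine ⟨fun V => ⟨f V, hfm V⟩, fun V => ⟨g V, hgm V⟩, fun V => Subtype.ext ?_, fun V => Subtype.ext ?_⟩
    · have h2 := (hf V).symm (hlt i).le (hlt j).le
      rw [← hi', ← hj'] at h2
      exact Tr.unique hxy (h1' i).1 (h1' j).1 h2 (hg ⟨f V, hfm V⟩)
    · have h2 := (hg V).symm (h1' i).2.le (h1' j).2.le
      rw [hi', hj', Nat.sub_sub_self (hlt i).le, Nat.sub_sub_self (hlt j).le] at h2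
      exact Tr.unique hxy (h1 i) (h1 j) h2 (hf ⟨g V, hgm V⟩)
  have hne : Φ * Φ' * Δ ≠ 0 := mul_ne_zero (mul_ne_zero hΦ hΦ') hΔ
  constructor
  · rintro ⟨Ψ, hΨ, h⟩
    refine ⟨Ψ * (Φ * Φ' * Δ), mul_ne_zero hΨ hne, fun P hP => ?_⟩
    rw [map_mul, mul_ne_zero_iff] at hP
    obtain ⟨-, h2, h3⟩ := main P hP.2
    exact ⟨h2, h3 ▸ (h P hP.1).2⟩
  · rintro ⟨Ψ, hΨ, h⟩
    refine ⟨Ψ * (Φ * Φ' * Δ), mul_ne_zero hΨ hne, fun P hP => ?_⟩
    rw [map_mul, mul_ne_zero_iff] at hP
    obtain ⟨h2, -, h3⟩ := main P hP.2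
    exact ⟨h2, h3.symm ▸ (h P hP.1).2⟩

end Groth.Agent.W4RamLib
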