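import Groth.Agent.W4RamLib.Sat

/-!
A family of pencils with prescribed ramification whose special member is inseparable forces a
separable pencil on the special fibre with the same finite ramification and one more point at
infinity.
-/

set_option autoImplicit false
universe u

namespace Groth.Agent.W4RamLib

open Polynomial

lemma dvd_wronskian_of_comb {k : Type*} [Field k] (z : k) (m i : ℕ) {a b : k} (hab : a ≠ 0 ∨ b ≠ 0) {f g : k[X]}
    (h : (X - C z) ^ m ∣ a • f + b • g) (hf : (X - C z) ^ i ∣ f) (hg : (X - C z) ^ i ∣ g) :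
    (X - C z) ^ (m + i - 1) ∣ wronskian f g := by
  rcases hab with ha | hb
  · have h1 := pow_dvd_wronskian_of_dvd z m i h hg
    rw [show wronskian (a • f + b • g) g = C a * wronskian f g by
      simp only [wronskian, smul_eq_C_mul, derivative_add, derivative_C_mul]; ring] at h1
    exact (isUnit_C.mpr (isUnit_iff_ne_zero.mpr ha)).dvd_mul_left.mp h1
  · have h1 := pow_dvd_wronskian_of_dvd z m i h hf
    rw [show wronskian (a • f + b • g) f = C (-b) * wronskian f g by
      simp only [wronskian, smul_eq_C_mul, derivative_add, derivative_C_mul, map_neg]; ring] at h1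
    exact (isUnit_C.mpr (isUnit_iff_ne_zero.mpr (neg_ne_zero.mpr hb))).dvd_mul_left.mp h1

variable {A : Type u} [CommRing A] [IsDomain A] [IsDiscreteValuationRing A]
  {K : Type u} [Field K] [Algebra A K] [IsFractionRing A K]

set_option maxHeartbeats 400000 in
theorem inseparable_limit (p : ℕ) [Fact p.Prime] [CharP A p] (d n : ℕ) (e : Fin n → ℕ)
    (he : W4c1limliniiii.Admissible p d e) (hlt : ∀ i, e i < p)
    (P : Fin n → A) (F G : A[X]) (hF : F.natDegree ≤ d) (hG : G.natDegree ≤ d)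
    (hind : LinearIndependent (IsLocalRing.ResidueField A)
      ![F.map (IsLocalRing.residue A), G.map (IsLocalRing.residue A)])
    (hgen : Submodule.span K {F.map (algebraMap A K), G.map (algebraMap A K)} ∈
      W4c1limliniiii.ramMaps d (fun i => algebraMap A K (P i)) e)
    (hinsep : ¬ W4c1limliniiii.IsSeparable
      (Submodule.span (IsLocalRing.ResidueField A)
        {F.map (IsLocalRing.residue A), G.map (IsLocalRing.residue A)}))
    (hdist : Function.Injective (fun i => IsLocalRing.residue A (P i))) :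
    ∃ m ε : ℕ, 1 ≤ m ∧ m * p ≤ d ∧ ε ≤ 1 ∧
      ∃ V ∈ W4c1limliniiii.ramMaps (d + m * p - 1 + ε) (fun i => IsLocalRing.residue A (P i)) e,
        W4c1limliniiii.HasRamIdxInf (d + m * p - 1 + ε) V (2 * m * p - 1 + 2 * ε) := by
  classical
  haveI : CharP K p := charP_of_injective_algebraMap (IsFractionRing.injective A K) p
  haveI : CharP (IsLocalRing.ResidueField A) p := charP_residue p
  set φ := algebraMap A K with hφdef
  set res := IsLocalRing.residue A with hresdef
  set f := F.map φ with hf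
  set g := G.map φ with hg
  have hp := (Fact.out : p.Prime)
  have hp2 := hp.two_le
  obtain ⟨he1, hsum⟩ := he
  obtain ⟨⟨-, -, -, -⟩, ⟨s₁, hs₁, s₂, hs₂, hsw⟩, hram⟩ := hgen
  rw [Submodule.mem_span_pair] at hs₁ hs₂
  obtain ⟨a₁, b₁, rfl⟩ := hs₁
  obtain ⟨a₂, b₂, rfl⟩ := hs₂
  have hW0 : wronskian f g ≠ 0 := fun h => hsw (by rw [wronskian_smul_comb, h, mul_zero])
  -- the generic Wronskian
  have hmem : ∀ l, ∃ a b : K, (a ≠ 0 ∨ b ≠ 0) ∧ (X - C (φ (P l))) ^ e l ∣ a • f + b • g := by
    intro l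
    obtain ⟨⟨s, hs, hs0, hsm⟩, -⟩ := hram l
    rw [Submodule.mem_span_pair] at hs
    obtain ⟨a, b, rfl⟩ := hs
    refine ⟨a, b, ?_, (le_rootMultiplicity_iff hs0).mp hsm⟩
    by_contra h
    push Not at h
    exact hs0 (by simp [h.1, h.2])
  have hφinj : Function.Injective φ := IsFractionRing.injective A K
  have hPinj : Function.Injective fun l => φ (P l) := fun i j h => hdist (congrArg res (hφinj h))
  obtain ⟨c, hW⟩ : ∃ c : K, wronskian f g = C c * ∏ l, (X - C (φ (P l))) ^ (e l - 1) := by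
    have hdvd : (∏ l, (X - C (φ (P l))) ^ (e l - 1)) ∣ wronskian f g := by
      refine Finset.prod_dvd_of_coprime (fun a _ b _ hab => ((pairwise_coprime_X_sub_C hPinj) hab).pow) fun l _ => ?_
      obtain ⟨a, b, hab, hdiv⟩ := hmem l
      exact dvd_wronskian_of_comb (φ (P l)) (e l) 0 hab hdiv (by simp) (by simp)
    obtain ⟨r, hr⟩ := hdvd
    have hdeg : (∏ l, (X - C (φ (P l))) ^ (e l - 1)).natDegree + 2 = 2 * d := by
      rw [natDegree_prod _ _ fun l _ => pow_ne_zero _ (X_sub_C_ne_zero _)]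
      simp only [natDegree_pow, natDegree_X_sub_C, mul_one]
      have h1 : ∑ l, (e l - 1) + n = ∑ l, e l := by
        conv_lhs => arg 2; rw [show n = ∑ _l : Fin n, 1 by simp]
        rw [← Finset.sum_add_distrib]
        exact Finset.sum_congr rfl fun l _ => by have := (he1 l).1; omega
      omega
    have hdr : r.natDegree = 0 := by
      have := natDegree_wronskian_le (natDegree_map_le.trans hF : f.natDegree ≤ d) (natDegree_map_le.trans hG : g.natDegree ≤ d)
      rw [hr, natDegree_mul (fun h => hW0 (by rw [hr, h, zero_mul])) (fun h => hW0 (by rw [hr, h, mul_zero]))] at this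
      omega
    exact ⟨r.coeff 0, by rw [hr, mul_comm, ← eq_C_of_natDegree_eq_zero hdr]⟩
  set M : (IsLocalRing.ResidueField A)[X] := ∏ l, (X - C (res (P l))) ^ (e l - 1) with hM
  have hM0 : M ≠ 0 := Finset.prod_ne_zero_iff.mpr fun l _ => pow_ne_zero _ (X_sub_C_ne_zero _)
  have hMdeg : M.natDegree + 2 = 2 * d := by
    rw [hM, natDegree_prod _ _ fun l _ => pow_ne_zero _ (X_sub_C_ne_zero _)]
    simp only [natDegree_pow, natDegree_X_sub_C, mul_one]
    have h1 : ∑ l, (e l - 1) + n = ∑ l, e l := by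
      conv_lhs => arg 2; rw [show n = ∑ _l : Fin n, 1 by simp]
      rw [← Finset.sum_add_distrib]
      exact Finset.sum_congr rfl fun l _ => by have := (he1 l).1; omega
    omega
  set L := redPts (A := A) f g with hL
  have hWL : ∀ x ∈ L, ∀ y ∈ L, ∃ σ, derivative σ = 0 ∧ wronskian x y = σ * M :=
    fun x hx y hy => exists_wronskian_eq_mul hW hx hy
  -- the degrees of the reduced points
  have hex : ∀ (j : ℕ) (S : Finset ℕ), (∀ x ∈ L, x ≠ 0 → x.natDegree ≤ d + p * j → x.natDegree ∈ S) → 2 * j + 2 ≤ S.card :=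
    fun j S => le_card_degrees p hF hG hf.symm hg.symm hW0 j S
  have hne : ∃ q, ∃ x ∈ L, x ≠ 0 ∧ x.natDegree = q := by
    by_contra h
    have := hex 0 ∅ fun x hx hx0 _ => (h ⟨_, x, hx, hx0, rfl⟩).elim
    simp at this
  obtain ⟨u, hu, hu0, huq⟩ := Nat.find_spec hne
  set q := Nat.find hne with hq
  have hqmin : ∀ x ∈ L, x ≠ 0 → q ≤ x.natDegree := fun x hx hx0 => Nat.find_min' hne ⟨x, hx, hx0, rfl⟩
  have hne2 : ∃ D, ∃ x ∈ L, x ≠ 0 ∧ x.natDegree = D ∧ ¬ x.natDegree ≡ q [MOD p] := by
    by_contra h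
    push Not at h
    have := hex (d / p + 1) ((Finset.range ((d + p * (d / p + 1) - q) / p + 1)).image fun i => q + p * i) fun x hx hx0 hxn => by
      have h1 := hqmin x hx hx0
      obtain ⟨i, hi⟩ := (Nat.modEq_iff_dvd' h1).mp (h _ x hx hx0 rfl).symm
      refine Finset.mem_image.mpr ⟨i, Finset.mem_range.mpr ?_, by omega⟩
      rw [Nat.lt_succ_iff, Nat.le_div_iff_mul_le hp.pos, mul_comm]
      omega
    have h2 := this.trans Finset.card_image_le
    rw [Finset.card_range] at h2
    have h3 : (d + p * (d / p + 1) - q) / p ≤ (d + p * (d / p + 1)) / p := Nat.div_le_div_right (Nat.sub_le _ _)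
    rw [Nat.add_mul_div_left _ _ hp.pos] at h3
    omega
  obtain ⟨v, hv, hv0, hvD, hvq⟩ := Nat.find_spec hne2
  set D := Nat.find hne2 with hD
  rw [hvD] at hvq
  have hqD : q < D := lt_of_le_of_ne (hvD ▸ hqmin v hv hv0) fun h => hvq (h ▸ Nat.ModEq.refl _)
  have hnot : ¬ u.natDegree ≡ v.natDegree [MOD p] := by rw [huq, hvD]; exact fun h => hvq h.symm
  obtain ⟨hWuv0, hWuvdeg⟩ := natDegree_wronskian_eq p hu0 hv0 hnot
  obtain ⟨σ, hσ, hWuv⟩ := hWL u hu v hv
  have hclass : ∀ x ∈ L, x ≠ 0 → x.natDegree ≡ q [MOD p] ∨ x.natDegree ≡ D [MOD p] := by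
    intro x hx hx0
    by_contra hcl
    push Not at hcl
    obtain ⟨σ₁, hσ₁, h₁⟩ := hWL x hx v hv
    obtain ⟨σ₂, hσ₂, h₂⟩ := hWL u hu x hx
    have hid : wronskian u v * x = wronskian x v * u + wronskian u x * v := by simp only [wronskian]; ring
    rw [hWuv, h₁, h₂] at hid
    have hσ0 : σ ≠ 0 := fun h => hWuv0 (by rw [hWuv, h, zero_mul])
    have hid2 : σ * x = σ₁ * u + σ₂ * v := mul_right_cancel₀ hM0 (by linear_combination hid)
    have hdx : (σ * x).natDegree ≡ x.natDegree [MOD p] := by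
      rw [natDegree_mul hσ0 hx0]
      obtain ⟨i, hi⟩ := dvd_natDegree_of_derivative_eq_zero p hσ
      exact (Nat.modEq_iff_dvd' (Nat.le_add_left _ _)).mpr ⟨i, by omega⟩ |>.symm
    have hterm : ∀ (τ w : (IsLocalRing.ResidueField A)[X]), derivative τ = 0 → τ * w ≠ 0 →
        (τ * w).natDegree ≡ w.natDegree [MOD p] := by
      intro τ w hτ hne'
      obtain ⟨i, hi⟩ := dvd_natDegree_of_derivative_eq_zero p hτ
      rw [natDegree_mul (left_ne_zero_of_mul hne') (right_ne_zero_of_mul hne')]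
      exact (Nat.modEq_iff_dvd' (Nat.le_add_left _ _)).mpr ⟨i, by omega⟩ |>.symm
    have hne3 : σ * x ≠ 0 := mul_ne_zero hσ0 hx0
    rw [hid2] at hdx hne3
    by_cases h1 : σ₁ * u = 0
    · rw [h1, zero_add] at hdx hne3
      exact hcl.2 (hdx.symm.trans (hvD ▸ hterm _ _ hσ₂ hne3))
    by_cases h2 : σ₂ * v = 0
    · rw [h2, add_zero] at hdx
      exact hcl.1 (hdx.symm.trans (huq ▸ hterm _ _ hσ₁ h1))
    rcases lt_trichotomy (σ₁ * u).natDegree (σ₂ * v).natDegree with hl | hl | hl
    · rw [natDegree_add_eq_right_of_natDegree_lt hl] at hdx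
      exact hcl.2 (hdx.symm.trans (hvD ▸ hterm _ _ hσ₂ h2))
    · exact hvq ((hvD ▸ hterm _ _ hσ₂ h2).symm.trans (hl ▸ huq ▸ hterm _ _ hσ₁ h1))
    · rw [natDegree_add_eq_left_of_natDegree_lt hl] at hdx
      exact hcl.1 (hdx.symm.trans (huq ▸ hterm _ _ hσ₁ h1))
  have hS : ∀ N, q ≤ N → D ≤ N → ∀ x ∈ L, x ≠ 0 → x.natDegree ≤ N → x.natDegree ∈
      ((Finset.range ((N - q) / p + 1)).image fun i => q + p * i) ∪
      ((Finset.range ((N - D) / p + 1)).image fun i => D + p * i) := by
    intro N _ _ x hx hx0 hxN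
    rw [Finset.mem_union, Finset.mem_image, Finset.mem_image]
    by_cases hmod : x.natDegree ≡ q [MOD p]
    · have h1 := hqmin x hx hx0
      obtain ⟨i, hi⟩ := (Nat.modEq_iff_dvd' h1).mp hmod.symm
      refine Or.inl ⟨i, Finset.mem_range.mpr ?_, by omega⟩
      rw [Nat.lt_succ_iff, Nat.le_div_iff_mul_le hp.pos, mul_comm]; omega
    · have h1 : D ≤ x.natDegree := Nat.find_min' hne2 ⟨x, hx, hx0, rfl, hmod⟩
      obtain ⟨i, hi⟩ := (Nat.modEq_iff_dvd' h1).mp ((hclass x hx hx0).resolve_left hmod).symm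
      refine Or.inr ⟨i, Finset.mem_range.mpr ?_, by omega⟩
      rw [Nat.lt_succ_iff, Nat.le_div_iff_mul_le hp.pos, mul_comm]; omega
  -- the degree of the discriminant vanishes
  have hσ0 : σ ≠ 0 := fun h => hWuv0 (by rw [hWuv, h, zero_mul])
  obtain ⟨s, hs⟩ := dvd_natDegree_of_derivative_eq_zero p hσ
  have hsumdeg : q + D + 1 = 2 * d + p * s := by
    have h1 := hWuvdeg
    rw [hWuv, natDegree_mul hσ0 hM0, huq, hvD, hs] at h1
    omega
  obtain ⟨j, hj⟩ : ∃ j, j = q + D := ⟨_, rfl⟩
  have hjn : j ≤ d + p * j := (Nat.le_mul_of_pos_left j hp.pos).trans (Nat.le_add_left _ _)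
  have hcount := (hex j _ (hS (d + p * j) (by omega) (by omega))).trans ((Finset.card_union_le _ _).trans
    (add_le_add Finset.card_image_le Finset.card_image_le))
  rw [Finset.card_range, Finset.card_range] at hcount
  have hr1 := Nat.div_add_mod (d + p * j - q) p
  have hr2 := Nat.div_add_mod (d + p * j - D) p
  have hmul : p * (2 * j) ≤ p * ((d + p * j - q) / p + (d + p * j - D) / p) := Nat.mul_le_mul_left _ (by omega)
  rw [Nat.mul_add, show p * (2 * j) = 2 * (p * j) by ring] at hmul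
  have hkey : p * s + (d + p * j - q) % p + (d + p * j - D) % p ≤ 1 := by omega
  have hs0 : p * s = 0 := by
    rcases Nat.eq_zero_or_pos s with h | h
    · simp [h]
    · have := Nat.le_mul_of_pos_right p h; omega
  have hqd : q + 1 ≤ d := by omega
  have hr : (d - q) % p ≤ 1 := by
    have : (d + p * j - q) % p = (d - q) % p := by
      rw [show d + p * j - q = d - q + p * j by omega, Nat.add_mul_mod_self_left]
    omega
  obtain ⟨m, ε, hmε, hr⟩ : ∃ m ε, p * m + ε = d - q ∧ ε ≤ 1 := ⟨_, _, Nat.div_add_mod _ _, hr⟩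
  have hDeq : D = d + m * p - 1 + ε := by rw [mul_comm m p]; omega
  -- the pencil
  set V := Submodule.span (IsLocalRing.ResidueField A) {u, v} with hV
  have hmemV : ∀ x ∈ V, ∃ a b : IsLocalRing.ResidueField A, x = a • u + b • v := fun x hx => by
    rw [hV, Submodule.mem_span_pair] at hx
    obtain ⟨a, b, rfl⟩ := hx
    exact ⟨a, b, rfl⟩
  have huV : u ∈ V := Submodule.subset_span (Set.mem_insert _ _)
  have hvV : v ∈ V := Submodule.subset_span (Set.mem_insert_of_mem _ rfl)
  have hdegV : ∀ a b : IsLocalRing.ResidueField A, (b ≠ 0 → (a • u + b • v).natDegree = D) ∧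
      (b = 0 → a ≠ 0 → (a • u + b • v).natDegree = q) := fun a b => by
    refine ⟨fun hb => ?_, fun hb ha => ?_⟩
    · rw [natDegree_add_eq_right_of_natDegree_lt (by
        rw [natDegree_smul_of_smul_regular _ (IsSMulRegular.of_ne_zero hb), hvD]
        exact (natDegree_smul_le _ _).trans_lt (huq ▸ hqD)), natDegree_smul_of_smul_regular _ (IsSMulRegular.of_ne_zero hb), hvD]
    · subst hb; rw [zero_smul, add_zero, natDegree_smul_of_smul_regular _ (IsSMulRegular.of_ne_zero ha), huq]
  have hli : LinearIndependent (IsLocalRing.ResidueField A) ![u, v] := LinearIndependent.pair_iff.mpr fun a b h => by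
    have h2 := congrArg natDegree h
    rw [natDegree_zero] at h2
    have hb : b = 0 := by
      by_contra hb; rw [(hdegV a b).1 hb] at h2; omega
    subst hb
    rw [zero_smul, add_zero] at h
    exact ⟨(smul_eq_zero.mp h).resolve_right hu0, rfl⟩
  have hrank : Module.finrank (IsLocalRing.ResidueField A) V = 2 := by
    have := finrank_span_eq_card hli
    rwa [Matrix.range_cons, Matrix.range_cons, Matrix.range_empty, Set.union_empty, Set.singleton_union,
      Fintype.card_fin] at this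
  have hm1 : 1 ≤ m := by
    by_contra hm1
    have hm0 : m = 0 := Nat.lt_one_iff.mp (not_le.mp hm1)
    rw [hm0, mul_zero, zero_add] at hmε
    rw [hm0, zero_mul] at hDeq
    refine hinsep ⟨u, ?_, v, ?_, hWuv0⟩
    all_goals
      have hcard := finite_and_finrank_le_of_degrees (L ⊓ degreeLE _ d) {q, D} fun x hx hx0 => by
        have hxd : x.natDegree ≤ d := natDegree_le_iff_degree_le.mpr (mem_degreeLE.mp hx.2)
        have h3 := hS (max d D) (by omega) (le_max_right _ _) x hx.1 hx0 (hxd.trans (le_max_left _ _))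
        rw [show (max d D - q) / p = 0 from Nat.div_eq_of_lt (by omega),
          show (max d D - D) / p = 0 from Nat.div_eq_of_lt (by omega)] at h3
        simpa using h3
      haveI := hcard.1
      have hle2 : Submodule.span (IsLocalRing.ResidueField A) {F.map res, G.map res} ≤ L ⊓ degreeLE _ d := by
        refine Submodule.span_le.mpr (Set.insert_subset ⟨⟨F, ?_, rfl⟩, ?_⟩ (Set.singleton_subset_iff.mpr ⟨⟨G, ?_, rfl⟩, ?_⟩))
        · exact ⟨1, 0, derivative_one, derivative_zero, by rw [one_mul, zero_mul, add_zero]⟩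
        · exact mem_degreeLE.mpr (natDegree_le_iff_degree_le.mp (natDegree_map_le.trans hF))
        · exact ⟨0, 1, derivative_zero, derivative_one, by rw [one_mul, zero_mul, zero_add]⟩
        · exact mem_degreeLE.mpr (natDegree_le_iff_degree_le.mp (natDegree_map_le.trans hG))
      have heq := Submodule.eq_of_le_of_finrank_le hle2 (hcard.2.trans (by
        have := finrank_span_eq_card hind
        rw [Matrix.range_cons, Matrix.range_cons, Matrix.range_empty, Set.union_empty, Set.singleton_union,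
          Fintype.card_fin] at this
        rw [this]; exact Finset.card_le_two))
      rw [heq]
    · exact ⟨hu, mem_degreeLE.mpr (natDegree_le_iff_degree_le.mp (by omega))⟩
    · exact ⟨hv, mem_degreeLE.mpr (natDegree_le_iff_degree_le.mp (by omega))⟩
  obtain ⟨lam, hlam⟩ : ∃ lam, σ = C lam := ⟨_, eq_C_of_natDegree_eq_zero (by omega)⟩
  have hlam0 : lam ≠ 0 := fun h => hσ0 (by rw [hlam, h, map_zero])
  -- the Wronskian bounds the orders
  have hnodvd : ∀ (z : IsLocalRing.ResidueField A) (b : ℕ), (∀ l, res (P l) = z → e l ≤ b) → 1 ≤ b →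
      ¬ (X - C z) ^ b ∣ wronskian u v := by
    intro z b hb hb1 hdvd
    rw [hWuv, hlam, (isUnit_C.mpr (isUnit_iff_ne_zero.mpr hlam0)).dvd_mul_left] at hdvd
    have hroot : ∀ (S : Finset (Fin n)), (X - C z) ∣ ∏ l ∈ S, (X - C (res (P l))) ^ (e l - 1) → ∃ l ∈ S, res (P l) = z := by
      intro S h
      obtain ⟨l, hl, h2⟩ := (Prime.dvd_finsetProd_iff (prime_X_sub_C z) _).mp h
      refine ⟨l, hl, ?_⟩
      have h3 := dvd_iff_isRoot.mp ((prime_X_sub_C z).dvd_of_dvd_pow h2)
      rw [IsRoot, eval_sub, eval_X, eval_C, sub_eq_zero] at h3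
      exact h3.symm
    obtain ⟨l, -, hl⟩ := hroot _ ((dvd_pow_self _ (by omega)).trans hdvd)
    have hle := hb l hl
    have h2 : (X - C z) ^ e l ∣ M := (pow_dvd_pow _ hle).trans hdvd
    rw [hM, ← Finset.mul_prod_erase _ _ (Finset.mem_univ l), hl,
      show (X - C z) ^ e l = (X - C z) ^ (e l - 1) * (X - C z) by rw [← pow_succ]; congr 1; have := (he1 l).1; omega,
      mul_dvd_mul_iff_left (pow_ne_zero _ (X_sub_C_ne_zero _))] at h2
    obtain ⟨l', hl', hl''⟩ := hroot _ h2
    exact Finset.ne_of_mem_erase hl' (hdist (hl''.trans hl.symm))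
  have hloc : ∀ l, ∃ a b : IsLocalRing.ResidueField A, (a ≠ 0 ∨ b ≠ 0) ∧ (X - C (res (P l))) ^ e l ∣ a • u + b • v := by
    intro l
    obtain ⟨a, b, hab, hdiv⟩ := hmem l
    exact exists_comb_dvd p (hlt l).le hab hdiv hu hv
  have hupper : ∀ (z : IsLocalRing.ResidueField A) (b : ℕ), (∀ l, res (P l) = z → e l ≤ b) → 1 ≤ b →
      ∀ x ∈ V, x ≠ 0 → x.rootMultiplicity z ≤ b := by
    intro z b hb hb1 x hx hx0
    by_contra hgt
    have hdiv := (le_rootMultiplicity_iff hx0).mp (Nat.lt_iff_add_one_le.mp (lt_of_not_ge hgt))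
    obtain ⟨a, a', rfl⟩ := hmemV x hx
    have hab : a ≠ 0 ∨ a' ≠ 0 := not_and_or.mp fun h => hx0 (by simp [h.1, h.2])
    have h1 := dvd_wronskian_of_comb z (b + 1) 0 hab hdiv (by simp) (by simp)
    rw [add_zero, Nat.add_sub_cancel] at h1
    exact hnodvd z b hb hb1 h1
  have hpm : p ≤ p * m := Nat.le_mul_of_pos_right p hm1
  refine ⟨m, ε, hm1, by rw [mul_comm]; omega, hr, V, ⟨⟨?_, hrank, ⟨v, hvV, hvD.trans hDeq⟩, ?_⟩,
    ⟨u, huV, v, hvV, hWuv0⟩, fun l => ⟨?_, fun x hx hx0 => hupper _ _ (fun l' h => le_of_eq (by rw [hdist h]))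
      (by have := (he1 l).1; omega) x hx hx0⟩⟩, ?_, ?_⟩
  · refine Submodule.span_le.mpr (Set.insert_subset ?_ (Set.singleton_subset_iff.mpr ?_))
    · exact mem_degreeLE.mpr (natDegree_le_iff_degree_le.mp (by omega))
    · exact mem_degreeLE.mpr (natDegree_le_iff_degree_le.mp (by omega))
  · intro z
    by_contra hcon
    push Not at hcon
    have h1 : (X - C z) ^ 1 ∣ u := by rw [pow_one]; exact dvd_iff_isRoot.mpr (hcon u huV)
    have h2 : (X - C z) ^ 1 ∣ v := by rw [pow_one]; exact dvd_iff_isRoot.mpr (hcon v hvV)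
    by_cases hz : ∃ l, res (P l) = z
    · obtain ⟨l, rfl⟩ := hz
      obtain ⟨a, b, hab, hdiv⟩ := hloc l
      have hb := hnodvd (res (P l)) (e l) (fun l' h => le_of_eq (by rw [hdist h])) (by have := (he1 l).1; omega)
      have h3 := dvd_wronskian_of_comb (res (P l)) (e l) 1 hab hdiv h1 h2
      rw [Nat.add_sub_cancel] at h3
      exact hb h3
    · exact hnodvd z 1 (fun l h => (hz ⟨l, h⟩).elim) le_rfl (pow_dvd_wronskian_of_dvd z 1 1 h1 h2)
  · obtain ⟨a, b, hab, hdiv⟩ := hloc l
    have hx0 : a • u + b • v ≠ 0 := fun h => by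
      obtain ⟨h1, h2⟩ := LinearIndependent.pair_iff.mp hli a b h
      exact hab.elim (fun h' => h' h1) (fun h' => h' h2)
    exact ⟨_, V.add_mem (V.smul_mem _ huV) (V.smul_mem _ hvV), hx0, (le_rootMultiplicity_iff hx0).mpr hdiv⟩
  · exact ⟨u, huV, hu0, by rw [huq, mul_assoc, mul_comm m p]; omega⟩
  · intro x hx hx0
    obtain ⟨a, b, rfl⟩ := hmemV x hx
    by_cases hb : b = 0
    · have ha : a ≠ 0 := fun h => hx0 (by simp [h, hb])
      rw [(hdegV a b).2 hb ha, mul_assoc, mul_comm m p]; omega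
    · rw [(hdegV a b).1 hb, ← hDeq]; omega

end Groth.Agent.W4RamLib
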