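import Groth.Agent.W4RamLib.Tangent

/-!
The reduction of a family of pencils with inseparable special member: the module of combinations of
the generic member with coefficients killed by differentiation reduces to a module of the same kind,
spanned by a separable pencil with the same finite ramification.
-/

set_option autoImplicit false
universe u

namespace Groth.Agent.W4RamLib

open Polynomial

section field

variable {k : Type*} [Field k]

lemma wronskian_comb {α β γ δ : k[X]} (hα : derivative α = 0) (hβ : derivative β = 0) (hγ : derivative γ = 0)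
    (hδ : derivative δ = 0) (f g : k[X]) :
    wronskian (α * f + β * g) (γ * f + δ * g) = (α * δ - β * γ) * wronskian f g := by
  simp only [wronskian, derivative_add, derivative_mul, hα, hβ, hγ, hδ]; ring

lemma wronskian_smul_comb (a b a' b' : k) (f g : k[X]) :
    wronskian (a • f + b • g) (a' • f + b' • g) = C (a * b' - b * a') * wronskian f g := by
  simp only [smul_eq_C_mul]
  rw [wronskian_comb derivative_C derivative_C derivative_C derivative_C, map_sub, map_mul, map_mul]

lemma pow_dvd_wronskian_of_dvd (z : k) (a b : ℕ) {f g : k[X]} (hf : (X - C z) ^ a ∣ f) (hg : (X - C z) ^ b ∣ g) :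
    (X - C z) ^ (a + b - 1) ∣ wronskian f g := by
  have hd : ∀ (a : ℕ) (f : k[X]), (X - C z) ^ a ∣ f → (X - C z) ^ (a - 1) ∣ derivative f := by
    rintro a f ⟨w, rfl⟩
    rw [derivative_mul, derivative_pow]
    exact dvd_add (dvd_mul_of_dvd_left (dvd_mul_of_dvd_left (dvd_mul_left _ _) _) _)
      (dvd_mul_of_dvd_left (pow_dvd_pow _ (Nat.sub_le _ _)) _)
  refine dvd_sub ?_ ?_
  · exact (pow_dvd_pow _ (by omega : a + b - 1 ≤ a + (b - 1))).trans (by rw [pow_add]; exact mul_dvd_mul hf (hd b g hg))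
  · exact (pow_dvd_pow _ (by omega : a + b - 1 ≤ (a - 1) + b)).trans (by rw [pow_add]; exact mul_dvd_mul (hd a f hf) hg)

variable (p : ℕ) [Fact p.Prime] [CharP k p]

lemma dvd_natDegree_of_derivative_eq_zero {f : k[X]} (hf : derivative f = 0) : p ∣ f.natDegree := by
  have h := expand_contract p hf (Fact.out : p.Prime).ne_zero
  rw [← h, natDegree_expand]
  exact dvd_mul_left _ _

lemma pow_dvd_sub_eval (z : k) {f : k[X]} (hf : derivative f = 0) : (X - C z) ^ p ∣ f - C (f.eval z) := by
  have h := expand_contract p hf (Fact.out : p.Prime).ne_zero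
  have e1 : f.eval z = (contract p f).eval (z ^ p) := by
    conv_lhs => rw [← h]
    rw [expand_eval]
  have e2 := map_dvd (expand k p) (X_sub_C_dvd_sub_C_eval (a := z ^ p) (p := contract p f))
  rw [map_sub, map_sub, expand_X, expand_C, expand_C, h, ← e1] at e2
  rwa [sub_pow_char, ← C_pow]

omit [Fact p.Prime] in
lemma natDegree_wronskian_eq {f g : k[X]} (hf : f ≠ 0) (hg : g ≠ 0) (h : ¬ f.natDegree ≡ g.natDegree [MOD p]) :
    wronskian f g ≠ 0 ∧ (wronskian f g).natDegree = f.natDegree + g.natDegree - 1 := by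
  have hne : f.natDegree ≠ g.natDegree := fun e => h (e ▸ Nat.ModEq.refl _)
  have h1 := Groth.Agent.S13929.coeff_wr f g f.natDegree g.natDegree le_rfl le_rfl (by omega)
  have h2 : ((g.natDegree : k) - f.natDegree) ≠ 0 := fun e =>
    h ((CharP.natCast_eq_natCast k p).mp (sub_eq_zero.mp e).symm)
  have h3 : (wronskian f g).coeff (f.natDegree + g.natDegree - 1) ≠ 0 := by
    rw [h1]
    exact mul_ne_zero (mul_ne_zero h2 (leadingCoeff_ne_zero.mpr hf)) (leadingCoeff_ne_zero.mpr hg)
  have h4 : wronskian f g ≠ 0 := fun e => h3 (by rw [e, coeff_zero])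
  refine ⟨h4, le_antisymm ?_ (le_natDegree_of_ne_zero h3)⟩
  have := natDegree_wronskian_lt_add h4
  omega

lemma finite_and_finrank_le_of_degrees (U : Submodule k k[X]) (S : Finset ℕ)
    (h : ∀ x ∈ U, x ≠ 0 → x.natDegree ∈ S) : FiniteDimensional k U ∧ Module.finrank k U ≤ S.card := by
  let φ : U →ₗ[k] (S → k) := LinearMap.pi fun i => (lcoeff k (i : ℕ)).comp U.subtype
  have hφ : Function.Injective φ := by
    rw [injective_iff_map_eq_zero]
    intro x hx
    by_contra hne
    have hne' : (x : k[X]) ≠ 0 := fun e => hne (Subtype.ext e)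
    exact leadingCoeff_ne_zero.mpr hne' (congrFun hx ⟨_, h _ x.2 hne'⟩)
  haveI := FiniteDimensional.of_injective φ hφ
  refine ⟨this, (LinearMap.finrank_le_finrank_of_injective hφ).trans ?_⟩
  rw [Module.finrank_fintype_fun_eq_card, Fintype.card_coe]

end field

section lattice

variable {A : Type u} [CommRing A] [IsDomain A] [IsDiscreteValuationRing A]
  {K : Type u} [Field K] [Algebra A K] [IsFractionRing A K] (f g : K[X])

local notation "𝕜" => IsLocalRing.ResidueField A
local notation "φ" => algebraMap A K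
local notation "res" => IsLocalRing.residue A

/-- The combinations of two polynomials with coefficients of derivative zero. -/
noncomputable def constComb : Submodule K K[X] where
  carrier := {h | ∃ α β : K[X], derivative α = 0 ∧ derivative β = 0 ∧ h = α * f + β * g}
  zero_mem' := ⟨0, 0, derivative_zero, derivative_zero, by simp⟩
  add_mem' := by
    rintro x y ⟨α, β, hα, hβ, rfl⟩ ⟨γ, δ, hγ, hδ, rfl⟩
    exact ⟨α + γ, β + δ, by simp [hα, hγ], by simp [hβ, hδ], by ring⟩
  smul_mem' := by
    rintro c x ⟨α, β, hα, hβ, rfl⟩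
    exact ⟨C c * α, C c * β, by simp [hα], by simp [hβ], by rw [smul_eq_C_mul]; ring⟩

/-- The integral points of `constComb`. -/
noncomputable def intPts : Submodule A A[X] where
  carrier := {h | h.map φ ∈ constComb f g}
  zero_mem' := by simp
  add_mem' := fun {x y} hx hy => by
    show (x + y).map φ ∈ constComb f g
    rw [Polynomial.map_add]; exact add_mem hx hy
  smul_mem' := fun c x hx => by
    show (c • x).map φ ∈ constComb f g
    rw [smul_eq_C_mul, Polynomial.map_mul, map_C, ← smul_eq_C_mul]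
    exact Submodule.smul_mem _ _ hx

/-- The reductions of the integral points. -/
noncomputable def redPts : Submodule 𝕜 (𝕜)[X] where
  carrier := {x | ∃ h ∈ intPts (A := A) f g, h.map res = x}
  zero_mem' := ⟨0, zero_mem _, Polynomial.map_zero _⟩
  add_mem' := by
    rintro x y ⟨a, ha, rfl⟩ ⟨b, hb, rfl⟩
    exact ⟨a + b, add_mem ha hb, Polynomial.map_add _⟩
  smul_mem' := by
    rintro c x ⟨a, ha, rfl⟩
    obtain ⟨c, rfl⟩ := IsLocalRing.residue_surjective c
    exact ⟨c • a, Submodule.smul_mem _ c ha, by rw [smul_eq_C_mul, smul_eq_C_mul, Polynomial.map_mul, map_C]⟩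

variable {f g} (p : ℕ) [Fact p.Prime]

lemma charP_residue [CharP A p] : CharP 𝕜 p :=
  (CharP.charP_iff_prime_eq_zero Fact.out).mpr (by rw [← map_natCast res, CharP.cast_eq_zero, map_zero])

lemma mul_X_pow_mem [CharP A p] {x : (𝕜)[X]} (hx : x ∈ redPts f g) (i : ℕ) : X ^ (p * i) * x ∈ redPts f g := by
  haveI : CharP K p := charP_of_injective_algebraMap (IsFractionRing.injective A K) p
  obtain ⟨h, ⟨α, β, hα, hβ, hh⟩, rfl⟩ := hx
  have hd : derivative (X ^ (p * i) : K[X]) = 0 := by
    rw [derivative_X_pow, Nat.cast_mul, CharP.cast_eq_zero, zero_mul, map_zero, zero_mul]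
  refine ⟨X ^ (p * i) * h, ⟨X ^ (p * i) * α, X ^ (p * i) * β, by rw [derivative_mul, hd, hα]; ring,
    by rw [derivative_mul, hd, hβ]; ring, ?_⟩, by rw [Polynomial.map_mul, Polynomial.map_pow, map_X]⟩
  rw [Polynomial.map_mul, Polynomial.map_pow, map_X, hh]; ring

variable {n : ℕ} {e : Fin n → ℕ} {P : Fin n → A}

/-- The Wronskian of two reduced points. -/
lemma exists_wronskian_eq_mul {c : K}
    (hW : wronskian f g = C c * ∏ l, (X - C (φ (P l))) ^ (e l - 1)) {x y : (𝕜)[X]}
    (hx : x ∈ redPts f g) (hy : y ∈ redPts f g) :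
    ∃ σ : (𝕜)[X], derivative σ = 0 ∧ wronskian x y = σ * ∏ l, (X - C (res (P l))) ^ (e l - 1) := by
  obtain ⟨a, ⟨α, β, hα, hβ, ha⟩, rfl⟩ := hx
  obtain ⟨b, ⟨γ, δ, hγ, hδ, hb⟩, rfl⟩ := hy
  set M : A[X] := ∏ l, (X - C (P l)) ^ (e l - 1) with hM
  have hmon : M.Monic := monic_prod_of_monic _ _ fun l _ => (monic_X_sub_C _).pow _
  have hMK : M.map φ = ∏ l, (X - C (φ (P l))) ^ (e l - 1) := by
    simp [hM, Polynomial.map_prod]
  have hWK : (wronskian a b).map φ = (α * δ - β * γ) * C c * M.map φ := by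
    rw [Groth.Agent.S13929.wr_map, ha, hb, wronskian_comb hα hβ hγ hδ, hW, hMK]; ring
  obtain ⟨σ, hσ⟩ := (map_dvd_map φ (IsFractionRing.injective A K) hmon).mp (hWK ▸ dvd_mul_left _ _)
  have hσd : derivative σ = 0 := by
    apply Polynomial.map_injective φ (IsFractionRing.injective A K)
    rw [← derivative_map, Polynomial.map_zero]
    have : σ.map φ = (α * δ - β * γ) * C c := by
      refine mul_left_cancel₀ (hmon.map φ).ne_zero ?_
      rw [← Polynomial.map_mul, ← hσ, hWK]; ring
    rw [this]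
    simp [hα, hβ, hγ, hδ]
  refine ⟨σ.map res, by rw [derivative_map, hσd, Polynomial.map_zero], ?_⟩
  rw [← Groth.Agent.S13929.wr_map, hσ, Polynomial.map_mul, mul_comm]
  simp [hM, Polynomial.map_prod]

lemma linearIndependent_comb [CharP A p] {F G : A[X]} (hf : F.map φ = f) (hg : G.map φ = g)
    (hW : wronskian f g ≠ 0) (m : ℕ) :
    ∀ a b : Fin m → A, ∑ i, (a i • (X ^ (p * (i : ℕ)) * F) + b i • (X ^ (p * (i : ℕ)) * G)) = 0 → a = 0 ∧ b = 0 := by
  haveI : CharP K p := charP_of_injective_algebraMap (IsFractionRing.injective A K) p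
  intro a b h
  set α : K[X] := ∑ i : Fin m, C (φ (a i)) * X ^ (p * (i : ℕ)) with hα
  set β : K[X] := ∑ i : Fin m, C (φ (b i)) * X ^ (p * (i : ℕ)) with hβ
  have hd : ∀ i : ℕ, derivative (X ^ (p * i) : K[X]) = 0 := fun i => by
    rw [derivative_X_pow, Nat.cast_mul, CharP.cast_eq_zero, zero_mul, map_zero, zero_mul]
  have hα' : derivative α = 0 := by simp [hα, derivative_sum, hd]
  have hβ' : derivative β = 0 := by simp [hβ, derivative_sum, hd]
  have h0 : α * f + β * g = 0 := by
    have := congrArg (Polynomial.map φ) h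
    rw [Polynomial.map_sum, Polynomial.map_zero] at this
    rw [← this, hα, hβ, Finset.sum_mul, Finset.sum_mul, ← Finset.sum_add_distrib]
    refine Finset.sum_congr rfl fun i _ => ?_
    simp [smul_eq_C_mul, hf, hg, mul_assoc]
  have key : ∀ {γ : K[X]}, γ = 0 → ∀ a : Fin m → A, γ = ∑ i : Fin m, C (φ (a i)) * X ^ (p * (i : ℕ)) → a = 0 := by
    intro γ hγ a ha
    funext i
    apply IsFractionRing.injective A K
    have := congrArg (fun t : K[X] => t.coeff (p * (i : ℕ))) (ha.symm.trans hγ)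
    simp only [finsetSum_coeff, coeff_C_mul_X_pow, coeff_zero] at this
    rw [Finset.sum_eq_single i (fun j _ hj => if_neg fun hh => hj (Fin.ext
      (Nat.eq_of_mul_eq_mul_left (Fact.out : p.Prime).pos hh).symm)) (by simp), if_pos rfl] at this
    rw [this]; simp
  have e1 := wronskian_comb hα' hβ' (derivative_zero) (derivative_one) f g
  have e2 := wronskian_comb hα' hβ' (derivative_one) (derivative_zero) f g
  rw [h0, wronskian_zero_left] at e1 e2
  simp [hW] at e1 e2
  exact ⟨key e1 a hα, key e2 b hβ⟩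

/-- The reduced points have at least `2 j + 2` independent members of degree at most `d + p j`. -/
lemma le_card_degrees [CharP A p] {F G : A[X]} {d : ℕ} (hF : F.natDegree ≤ d) (hG : G.natDegree ≤ d)
    (hf : F.map φ = f) (hg : G.map φ = g) (hW : wronskian f g ≠ 0) (j : ℕ) (S : Finset ℕ)
    (hS : ∀ x ∈ redPts (A := A) f g, x ≠ 0 → x.natDegree ≤ d + p * j → x.natDegree ∈ S) : 2 * j + 2 ≤ S.card := by
  classical
  set N := d + p * j with hN
  set L : Submodule A A[X] := intPts f g ⊓ degreeLE A N with hL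
  set U : Submodule 𝕜 (𝕜)[X] := redPts f g ⊓ degreeLE 𝕜 N with hU
  obtain ⟨hfin, hle⟩ := finite_and_finrank_le_of_degrees U S fun x hx hx0 =>
    hS x hx.1 hx0 (natDegree_le_iff_degree_le.mpr (mem_degreeLE.mp hx.2))
  haveI : Module.Finite A (degreeLE A (N : WithBot ℕ)) :=
    Module.Finite.of_injective (Submodule.inclusion (show degreeLE A (N : WithBot ℕ) ≤ degreeLT A (N + 1) from
      fun x hx => mem_degreeLT.mpr (lt_of_le_of_lt (mem_degreeLE.mp hx) (WithBot.coe_lt_coe.mpr N.lt_succ_self))))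
      (Submodule.inclusion_injective _)
  haveI : Module.Finite A L := Module.Finite.of_injective (Submodule.inclusion inf_le_right) (Submodule.inclusion_injective _)
  haveI : Module.Free A L := Module.free_of_finite_type_torsion_free'
  let b := Module.Free.chooseBasis A L
  have hrank : 2 * j + 2 ≤ Fintype.card (Module.Free.ChooseBasisIndex A L) := by
    have hmem : ∀ (i : Fin (j + 1)) (H : A[X]), H.natDegree ≤ d → H.map φ ∈ ({f, g} : Set K[X]) →
        X ^ (p * (i : ℕ)) * H ∈ L := by
      intro i H hH hmap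
      haveI : CharP K p := charP_of_injective_algebraMap (IsFractionRing.injective A K) p
      have hd : derivative (X ^ (p * (i : ℕ)) : K[X]) = 0 := by
        rw [derivative_X_pow, Nat.cast_mul, CharP.cast_eq_zero, zero_mul, map_zero, zero_mul]
      refine ⟨?_, mem_degreeLE.mpr (natDegree_le_iff_degree_le.mp ?_)⟩
      · rcases hmap with hmap | hmap
        · exact ⟨X ^ (p * (i : ℕ)), 0, hd, derivative_zero, by simp [hmap]⟩
        · exact ⟨0, X ^ (p * (i : ℕ)), derivative_zero, hd, by simp [Set.mem_singleton_iff.mp hmap]⟩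
      · have h1 := natDegree_mul_le (p := (X ^ (p * (i : ℕ)) : A[X])) (q := H)
        rw [natDegree_X_pow] at h1
        have h2 : p * (i : ℕ) ≤ p * j := Nat.mul_le_mul_left _ (Nat.le_of_lt_succ i.2)
        omega
    let v : Fin (j + 1) ⊕ Fin (j + 1) → L :=
      Sum.elim (fun i => ⟨_, hmem i F hF (Or.inl hf)⟩) (fun i => ⟨_, hmem i G hG (Or.inr hg)⟩)
    have hv : LinearIndependent A v := by
      rw [Fintype.linearIndependent_iff]
      intro a ha
      have h2 := congrArg Subtype.val ha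
      rw [Fintype.sum_sum_type] at h2
      simp only [v, Sum.elim_inl, Sum.elim_inr, Submodule.coe_add, Submodule.coe_sum, Submodule.coe_smul,
        ZeroMemClass.coe_zero] at h2
      rw [← Finset.sum_add_distrib] at h2
      obtain ⟨ha1, ha2⟩ := linearIndependent_comb p hf hg hW (j + 1) (fun i => a (Sum.inl i)) (fun i => a (Sum.inr i)) h2
      rintro (i | i)
      · exact congrFun ha1 i
      · exact congrFun ha2 i
    have := hv.fintype_card_le_finrank
    rw [Module.finrank_eq_card_basis b, Fintype.card_sum, Fintype.card_fin] at this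
    omega
  refine hrank.trans (le_trans ?_ hle)
  let w : Module.Free.ChooseBasisIndex A L → U := fun i =>
    ⟨((b i : L) : A[X]).map res, ⟨_, (b i).2.1, rfl⟩, mem_degreeLE.mpr
      (natDegree_le_iff_degree_le.mp (natDegree_map_le.trans (natDegree_le_iff_degree_le.mpr (mem_degreeLE.mp (b i).2.2))))⟩
  refine LinearIndependent.fintype_card_le_finrank (b := w) ?_
  rw [Fintype.linearIndependent_iff]
  intro a ha
  choose c hc using fun i => IsLocalRing.residue_surjective (a i)
  obtain ⟨π, hπ⟩ := IsDiscreteValuationRing.exists_irreducible A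
  set s : L := ∑ i, c i • b i with hs
  have hs0 : (s : A[X]).map res = 0 := by
    have h2 := congrArg Subtype.val ha
    simp only [w, Submodule.coe_sum, Submodule.coe_smul, ZeroMemClass.coe_zero] at h2
    rw [← h2, hs]
    simp [Submodule.coe_sum, Polynomial.map_sum, smul_eq_C_mul, hc]
  obtain ⟨t, ht⟩ : C π ∣ (s : A[X]) := (C_dvd_iff_dvd_coeff _ _).mpr fun i => by
    have h2 := congrArg (fun q : (𝕜)[X] => q.coeff i) hs0
    simp only [coeff_map, coeff_zero] at h2
    rw [IsLocalRing.residue_eq_zero_iff, hπ.maximalIdeal_eq, Ideal.mem_span_singleton] at h2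
    exact h2
  have htL : t ∈ L := by
    refine ⟨?_, mem_degreeLE.mpr (natDegree_le_iff_degree_le.mp ?_)⟩
    · show t.map φ ∈ constComb f g
      have h2 : (s : A[X]).map φ ∈ constComb f g := s.2.1
      rw [ht, Polynomial.map_mul, map_C, ← smul_eq_C_mul] at h2
      exact (Submodule.smul_mem_iff _ ((map_ne_zero_iff _ (IsFractionRing.injective A K)).mpr hπ.ne_zero)).mp h2
    · have h2 := natDegree_le_iff_degree_le.mpr (mem_degreeLE.mp s.2.2)
      rwa [ht, natDegree_C_mul hπ.ne_zero] at h2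
  have hst : s = π • (⟨t, htL⟩ : L) := Subtype.ext (by rw [ht, Submodule.coe_smul, smul_eq_C_mul])
  intro i
  have h3 : b.repr s i = c i := by rw [hs, b.repr_sum_self]
  rw [hst, map_smul, Finsupp.smul_apply, smul_eq_mul] at h3
  rw [← hc i, ← h3, IsLocalRing.residue_eq_zero_iff, hπ.maximalIdeal_eq, Ideal.mem_span_singleton]
  exact dvd_mul_right _ _

/-- Two reduced points have a combination vanishing to order `m` at a point where a member of the generic pencil does. -/
lemma exists_comb_dvd [CharP A p] {z : A} {m : ℕ} (hm : m ≤ p) {a b : K} (hab : a ≠ 0 ∨ b ≠ 0)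
    (hdvd : (X - C (φ z)) ^ m ∣ a • f + b • g) {x y : (𝕜)[X]} (hx : x ∈ redPts f g) (hy : y ∈ redPts f g) :
    ∃ s t : 𝕜, (s ≠ 0 ∨ t ≠ 0) ∧ (X - C (res z)) ^ m ∣ s • x + t • y := by
  haveI : CharP K p := charP_of_injective_algebraMap (IsFractionRing.injective A K) p
  obtain ⟨h₁, ⟨α, β, hα, hβ, ha⟩, rfl⟩ := hx
  obtain ⟨h₂, ⟨γ, δ, hγ, hδ, hb⟩, rfl⟩ := hy
  set T := (X - C (φ z)) ^ m with hT
  have cong : ∀ (α β : K[X]), derivative α = 0 → derivative β = 0 →
      T ∣ α * f + β * g - (α.eval (φ z) • f + β.eval (φ z) • g) := by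
    intro α β hα hβ
    have e : α * f + β * g - (α.eval (φ z) • f + β.eval (φ z) • g) =
        (α - C (α.eval (φ z))) * f + (β - C (β.eval (φ z))) * g := by simp only [smul_eq_C_mul]; ring
    rw [e]
    exact dvd_add (dvd_mul_of_dvd_left ((pow_dvd_pow _ hm).trans (pow_dvd_sub_eval p _ hα)) _)
      (dvd_mul_of_dvd_left ((pow_dvd_pow _ hm).trans (pow_dvd_sub_eval p _ hβ)) _)
  obtain ⟨c₁, c₂, hc, hcd⟩ : ∃ c₁ c₂ : K, (c₁ ≠ 0 ∨ c₂ ≠ 0) ∧ T ∣ c₁ • h₁.map φ + c₂ • h₂.map φ := by
    set a₁ := α.eval (φ z); set b₁ := β.eval (φ z); set a₂ := γ.eval (φ z); set b₂ := δ.eval (φ z)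
    obtain ⟨c₁, c₂, hc, h0⟩ : ∃ c₁ c₂ : K, (c₁ ≠ 0 ∨ c₂ ≠ 0) ∧
        (c₁ * a₁ + c₂ * a₂) * b = (c₁ * b₁ + c₂ * b₂) * a := by
      by_cases h : a₁ * b - b₁ * a = 0
      · exact ⟨1, 0, Or.inl one_ne_zero, by linear_combination h⟩
      · exact ⟨a₂ * b - b₂ * a, -(a₁ * b - b₁ * a), Or.inr (neg_ne_zero.mpr h), by ring⟩
    refine ⟨c₁, c₂, hc, ?_⟩
    have e : c₁ • h₁.map φ + c₂ • h₂.map φ = C c₁ * (α * f + β * g - (a₁ • f + b₁ • g)) +
        C c₂ * (γ * f + δ * g - (a₂ • f + b₂ • g)) + ((c₁ * a₁ + c₂ * a₂) • f + (c₁ * b₁ + c₂ * b₂) • g) := by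
      rw [ha, hb]; simp only [smul_eq_C_mul, map_add, map_mul]; ring
    rw [e]
    refine dvd_add (dvd_add (dvd_mul_of_dvd_right (cong _ _ hα hβ) _) (dvd_mul_of_dvd_right (cong _ _ hγ hδ) _)) ?_
    set A' := c₁ * a₁ + c₂ * a₂; set B' := c₁ * b₁ + c₂ * b₂
    rcases hab with h | h
    · have e2 : A' • f + B' • g = (A' / a) • (a • f + b • g) := by
        rw [smul_add, smul_smul, smul_smul, div_mul_cancel₀ _ h, div_mul_eq_mul_div, h0, mul_div_assoc, div_self h, mul_one]
      rw [e2, smul_eq_C_mul]; exact dvd_mul_of_dvd_right hdvd _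
    · have e2 : A' • f + B' • g = (B' / b) • (a • f + b • g) := by
        rw [smul_add, smul_smul, smul_smul, div_mul_cancel₀ _ h, div_mul_eq_mul_div, ← h0, mul_div_assoc, div_self h, mul_one]
      rw [e2, smul_eq_C_mul]; exact dvd_mul_of_dvd_right hdvd _
  obtain ⟨r₁, r₂, hr, hrd⟩ : ∃ r₁ r₂ : A, (r₁ = 1 ∨ r₂ = 1) ∧ T ∣ φ r₁ • h₁.map φ + φ r₂ • h₂.map φ := by
    by_cases h2 : c₂ = 0
    · have h1 := hc.resolve_right (not_not_intro h2)
      refine ⟨1, 0, Or.inl rfl, ?_⟩
      subst h2
      have := dvd_mul_of_dvd_right hcd (C c₁⁻¹)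
      rw [zero_smul, add_zero, ← smul_eq_C_mul, smul_smul, inv_mul_cancel₀ h1, one_smul] at this
      simpa using this
    rcases ValuationRing.isInteger_or_isInteger A (c₁ / c₂) with ⟨r, hr⟩ | ⟨r, hr⟩
    · refine ⟨r, 1, Or.inr rfl, ?_⟩
      have := dvd_mul_of_dvd_right hcd (C c₂⁻¹)
      rw [← smul_eq_C_mul, smul_add, smul_smul, smul_smul, inv_mul_cancel₀ h2, inv_mul_eq_div, ← hr] at this
      simpa using this
    · by_cases h1 : c₁ = 0
      · refine ⟨0, 1, Or.inr rfl, ?_⟩
        subst h1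
        have := dvd_mul_of_dvd_right hcd (C c₂⁻¹)
        rw [zero_smul, zero_add, ← smul_eq_C_mul, smul_smul, inv_mul_cancel₀ h2, one_smul] at this
        simpa using this
      refine ⟨1, r, Or.inl rfl, ?_⟩
      have := dvd_mul_of_dvd_right hcd (C c₁⁻¹)
      rw [← smul_eq_C_mul, smul_add, smul_smul, smul_smul, inv_mul_cancel₀ h1, inv_mul_eq_div, ← inv_div, ← hr] at this
      simpa using this
  refine ⟨res r₁, res r₂, ?_, ?_⟩
  · rcases hr with rfl | rfl
    · exact Or.inl (by simp)
    · exact Or.inr (by simp)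
  have h2 : (r₁ • h₁ + r₂ • h₂).map φ = φ r₁ • h₁.map φ + φ r₂ • h₂.map φ := by
    simp only [Polynomial.map_add, smul_eq_C_mul, Polynomial.map_mul, map_C]
  have h3 : ((X - C z) ^ m).map φ = T := by simp [hT]
  rw [← h2, ← h3, map_dvd_map φ (IsFractionRing.injective A K) ((monic_X_sub_C _).pow _)] at hrd
  have h4 := map_dvd (mapRingHom res) hrd
  simpa [smul_eq_C_mul] using h4

end lattice

end Groth.Agent.W4RamLib
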