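import Groth.Agent.S13929
import Groth.Agent.FieldExtLib.Imperfection

/-!
The field of definition of a tame rational function on the line with prescribed ramification has
transcendence degree at most the number of ramification points.
-/

set_option autoImplicit false
universe u

namespace Groth.Agent.W4RamLib

open Polynomial

variable {k : Type u} [Field k] {L : Type u} [Field L] [Algebra k L]

/-- A derivation applied to the coefficients of a polynomial. -/
noncomputable def dcoe (D : Derivation k L L) (f : L[X]) : L[X] := f.sum fun j c => C (D c) * X ^ j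

lemma coeff_dcoe (D : Derivation k L L) (f : L[X]) (m : ℕ) : (dcoe D f).coeff m = D (f.coeff m) := by
  rw [dcoe, Polynomial.sum_def, finsetSum_coeff]
  simp only [coeff_C_mul_X_pow]
  rw [Finset.sum_ite_eq f.support m]
  split_ifs with h
  · rfl
  · rw [notMem_support_iff.mp h, map_zero]

lemma dcoe_natDegree_le (D : Derivation k L L) {f : L[X]} {d : ℕ} (hf : f.natDegree ≤ d) : (dcoe D f).natDegree ≤ d :=
  natDegree_le_iff_coeff_eq_zero.mpr fun m hm => by
    rw [coeff_dcoe, coeff_eq_zero_of_natDegree_lt (hf.trans_lt hm), map_zero]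

lemma dcoe_sub (D : Derivation k L L) (f g : L[X]) : dcoe D (f - g) = dcoe D f - dcoe D g := by
  ext m; simp [coeff_dcoe]

lemma dcoe_C (D : Derivation k L L) (a : L) : dcoe D (C a) = C (D a) := by
  ext m; rw [coeff_dcoe, coeff_C, coeff_C]; split_ifs <;> simp

lemma dcoe_X (D : Derivation k L L) : dcoe D (X : L[X]) = 0 := by
  ext m; rw [coeff_dcoe, coeff_X]; split_ifs <;> simp

lemma dcoe_mul (D : Derivation k L L) (f g : L[X]) : dcoe D (f * g) = dcoe D f * g + f * dcoe D g := by
  ext m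
  simp only [coeff_dcoe, coeff_mul, coeff_add, map_sum, Derivation.leibniz, smul_eq_mul, Finset.sum_add_distrib]
  rw [add_comm]
  exact congrArg₂ (· + ·) (Finset.sum_congr rfl fun x _ => mul_comm _ _) rfl

lemma dcoe_pow_succ (D : Derivation k L L) (a : L) :
    ∀ e : ℕ, dcoe D ((X - C a) ^ (e + 1)) = -(C ((e + 1 : ℕ) : L) * C (D a) * (X - C a) ^ e)
  | 0 => by simp [dcoe_sub, dcoe_X, dcoe_C]
  | e + 1 => by
    rw [pow_succ, dcoe_mul, dcoe_pow_succ D a e, dcoe_sub, dcoe_X, dcoe_C]
    push_cast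
    simp only [map_add, map_one]
    ring

/-- A chart presentation of a tame map with prescribed ramification, over an arbitrary field. -/
structure Data (L : Type u) [Field L] (d n : ℕ) (e : Fin n → ℕ) where
  F : L[X]
  G : L[X]
  P : Fin n → L
  i₀ : ℕ
  j₀ : ℕ
  hF : F.natDegree ≤ d
  hG : G.natDegree ≤ d
  hFi : F.coeff i₀ = 1
  hFj : F.coeff j₀ = 0
  hGi : G.coeff i₀ = 0
  hGj : G.coeff j₀ = 1
  hW : wronskian F G ≠ 0
  hP : Function.Injective P
  hb : ∀ l, ¬ (F.eval (P l) = 0 ∧ G.eval (P l) = 0)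
  hd : F.coeff d ≠ 0 ∨ G.coeff d ≠ 0
  hS : ∀ l, (X - C (P l)) ^ e l ∣ C (G.eval (P l)) * F - C (F.eval (P l)) * G
  hS' : ∀ l, ¬ (X - C (P l)) ^ (e l + 1) ∣ C (G.eval (P l)) * F - C (F.eval (P l)) * G

variable {d n : ℕ} {e : Fin n → ℕ}

lemma natDegree_wronskian_le {F G : L[X]} (hF : F.natDegree ≤ d) (hG : G.natDegree ≤ d) :
    (wronskian F G).natDegree ≤ 2 * d - 2 := by
  rcases Nat.eq_zero_or_pos d with rfl | hd
  · rw [eq_C_of_natDegree_le_zero hF, eq_C_of_natDegree_le_zero hG]
    simp [wronskian]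
  by_cases hw : wronskian F G = 0
  · simp [hw]
  have h1 := natDegree_wronskian_lt_add hw
  refine natDegree_le_iff_coeff_eq_zero.mpr fun m hm => ?_
  rcases Nat.lt_or_ge (wronskian F G).natDegree m with h | h
  · exact coeff_eq_zero_of_natDegree_lt h
  · have : m = d + d - 1 := by omega
    subst this
    rw [Groth.Agent.S13929.coeff_wr F G d d hF hG (by omega)]
    simp

section

variable (q : Data L d n e) (he : ∀ l, 1 ≤ e l) (hsum : (∑ i, e i) + 2 = 2 * d + n)

/-- The polynomial with the assigned roots and multiplicities. -/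
noncomputable def ramPoly : L[X] := ∏ l, (X - C (q.P l)) ^ (e l - 1)

include he

lemma pow_dvd_wronskian (l : Fin n) : (X - C (q.P l)) ^ (e l - 1) ∣ wronskian q.F q.G := by
  set S := C (q.G.eval (q.P l)) * q.F - C (q.F.eval (q.P l)) * q.G with hSdef
  obtain ⟨w, hw⟩ := q.hS l
  have hS1 : (X - C (q.P l)) ^ (e l - 1) ∣ S :=
    (pow_dvd_pow _ (Nat.sub_le _ _)).trans ⟨w, hw⟩
  have hS2 : (X - C (q.P l)) ^ (e l - 1) ∣ derivative S := by
    rw [show S = _ from hw, derivative_mul, derivative_pow]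
    exact dvd_add (dvd_mul_of_dvd_left (dvd_mul_of_dvd_left (dvd_mul_left _ _) _) _)
      (dvd_mul_of_dvd_left (pow_dvd_pow _ (Nat.sub_le _ _)) _)
  by_cases hc : q.G.eval (q.P l) = 0
  · have ha : q.F.eval (q.P l) ≠ 0 := fun ha => q.hb l ⟨ha, hc⟩
    have : wronskian q.F q.G = C (-(q.F.eval (q.P l))⁻¹) * (q.F * derivative S - derivative q.F * S) := by
      rw [hSdef, hc]
      simp only [map_zero, zero_mul, zero_sub, derivative_neg, derivative_C_mul, wronskian]
      have h1 : C (-(q.F.eval (q.P l))⁻¹) * C (q.F.eval (q.P l)) = -1 := by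
        rw [← C_mul, neg_mul, inv_mul_cancel₀ ha, map_neg, map_one]
      linear_combination (q.F * derivative q.G - derivative q.F * q.G) * h1
    rw [this]
    exact dvd_mul_of_dvd_right (dvd_sub (dvd_mul_of_dvd_right hS2 _) (dvd_mul_of_dvd_right hS1 _)) _
  · have : wronskian q.F q.G = C (q.G.eval (q.P l))⁻¹ * (S * derivative q.G - derivative S * q.G) := by
      rw [hSdef]
      simp only [derivative_sub, derivative_C_mul, wronskian]
      have h1 : C (q.G.eval (q.P l))⁻¹ * C (q.G.eval (q.P l)) = 1 := by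
        rw [← C_mul, inv_mul_cancel₀ hc, map_one]
      linear_combination -(q.F * derivative q.G - derivative q.F * q.G) * h1
    rw [this]
    exact dvd_mul_of_dvd_right (dvd_sub (dvd_mul_of_dvd_left hS1 _) (dvd_mul_of_dvd_left hS2 _)) _

include hsum

lemma exists_wronskian_eq : ∃ c : L, c ≠ 0 ∧ wronskian q.F q.G = C c * ramPoly q := by
  have hdvd : ramPoly q ∣ wronskian q.F q.G := by
    refine Finset.prod_dvd_of_coprime ?_ fun l _ => pow_dvd_wronskian q he l
    intro a _ b _ hab
    exact ((pairwise_coprime_X_sub_C q.hP) hab).pow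
  have hdeg : (ramPoly q).natDegree = 2 * d - 2 := by
    rw [ramPoly, natDegree_prod _ _ fun l _ => pow_ne_zero _ (X_sub_C_ne_zero _)]
    simp only [natDegree_pow, natDegree_X_sub_C, mul_one]
    have h1 : ∑ l, (e l - 1) + n = ∑ l, e l := by
      conv_lhs => arg 2; rw [show n = ∑ _l : Fin n, 1 by simp]
      rw [← Finset.sum_add_distrib]
      exact Finset.sum_congr rfl fun l _ => by have := he l; omega
    omega
  obtain ⟨r, hr⟩ := hdvd
  have hr0 : r ≠ 0 := fun h => q.hW (by rw [hr, h, mul_zero])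
  have hM0 : ramPoly q ≠ 0 := fun h => q.hW (by rw [hr, h, zero_mul])
  have hdr : r.natDegree = 0 := by
    have := natDegree_wronskian_le q.hF q.hG
    rw [hr, natDegree_mul hM0 hr0, hdeg] at this
    omega
  rw [eq_C_of_natDegree_eq_zero hdr] at hr hr0
  exact ⟨r.coeff 0, fun h => hr0 (by rw [h, map_zero]), by rw [hr, mul_comm]⟩

lemma isCoprime : IsCoprime q.F q.G := by
  obtain ⟨c, hc, hw⟩ := exists_wronskian_eq q he hsum
  refine isCoprime_of_prime_dvd (fun h => q.hW (by rw [h.1, wronskian_zero_left])) fun r hr hrF hrG => ?_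
  have hrW : r ∣ wronskian q.F q.G := dvd_sub (dvd_mul_of_dvd_left hrF _) (dvd_mul_of_dvd_right hrG _)
  rw [hw] at hrW
  rcases hr.dvd_or_dvd hrW with h | h
  · exact hr.not_unit (isUnit_of_dvd_unit h (isUnit_C.mpr (isUnit_iff_ne_zero.mpr hc)))
  · obtain ⟨l, -, hl⟩ := (Prime.dvd_finsetProd_iff hr _).mp h
    have hX : X - C (q.P l) ∣ r :=
      ((irreducible_X_sub_C (q.P l)).dvd_comm hr.irreducible).mpr (hr.dvd_of_dvd_pow hl)
    exact q.hb l ⟨dvd_iff_isRoot.mp (hX.trans hrF), dvd_iff_isRoot.mp (hX.trans hrG)⟩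

omit he hsum

/-- Motion of the map, modulo motions of the target, under a derivation. -/
noncomputable def motion : (Derivation k L L) × (Fin 3 → L) →ₗ[L] L[X] where
  toFun x := dcoe x.1 q.F * q.G - q.F * dcoe x.1 q.G +
    (C (x.2 0) * (q.F * q.F) + C (x.2 1) * (q.F * q.G) + C (x.2 2) * (q.G * q.G))
  map_add' x y := by
    have h : ∀ f, dcoe (x.1 + y.1) f = dcoe x.1 f + dcoe y.1 f := fun f => by ext m; simp [coeff_dcoe]
    simp only [Prod.fst_add, Prod.snd_add, h, Pi.add_apply, map_add]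
    ring
  map_smul' a x := by
    have h : ∀ f, dcoe (a • x.1) f = C a * dcoe x.1 f := fun f => by ext m; simp [coeff_dcoe]
    simp only [Prod.smul_fst, Prod.smul_snd, h, Pi.smul_apply, smul_eq_mul, map_mul, RingHom.id_apply, smul_eq_C_mul]
    ring

lemma motion_natDegree_le (x : (Derivation k L L) × (Fin 3 → L)) : (motion q x).natDegree ≤ d + d := by
  have hm : ∀ {f g : L[X]}, f.natDegree ≤ d → g.natDegree ≤ d → (f * g).natDegree ≤ d + d := fun hf hg =>
    natDegree_mul_le.trans (Nat.add_le_add hf hg)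
  show (_ : L[X]).natDegree ≤ _
  refine (natDegree_add_le _ _).trans (max_le ((natDegree_sub_le _ _).trans (max_le (hm (dcoe_natDegree_le _ q.hF) q.hG)
    (hm q.hF (dcoe_natDegree_le _ q.hG)))) ?_)
  refine (natDegree_add_le _ _).trans (max_le ((natDegree_add_le _ _).trans (max_le ?_ ?_)) ?_)
  all_goals refine (natDegree_C_mul_le _ _).trans ?_
  · exact hm q.hF q.hF
  · exact hm q.hF q.hG
  · exact hm q.hG q.hG

/-- The derivative of a value of a polynomial. -/
lemma deriv_eval (D : Derivation k L L) (f : L[X]) (a : L) :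
    D (f.eval a) = (dcoe D f).eval a + (derivative f).eval a * D a := by
  induction f using Polynomial.induction_on' with
  | add f g hf hg =>
    have h : dcoe D (f + g) = dcoe D f + dcoe D g := by ext m; simp [coeff_dcoe]
    rw [eval_add, map_add, hf, hg, h, derivative_add, eval_add, eval_add]; ring
  | monomial m c =>
    have h : dcoe D (monomial m c) = monomial m (D c) := by
      ext i; rw [coeff_dcoe, coeff_monomial, coeff_monomial]; split_ifs <;> simp
    rw [eval_monomial, h, eval_monomial, derivative_monomial, eval_monomial, Derivation.leibniz, Derivation.leibniz_pow]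
    simp only [smul_eq_mul, nsmul_eq_mul]
    ring

/-- The motion of the image of a point. -/
noncomputable def ptMotion (x : (Derivation k L L) × (Fin 3 → L)) (l : Fin n) : L :=
  x.1 (q.F.eval (q.P l)) * q.G.eval (q.P l) - q.F.eval (q.P l) * x.1 (q.G.eval (q.P l)) +
    (x.2 0 * (q.F.eval (q.P l) * q.F.eval (q.P l)) + x.2 1 * (q.F.eval (q.P l) * q.G.eval (q.P l)) +
      x.2 2 * (q.G.eval (q.P l) * q.G.eval (q.P l)))

/-- The value of the motion at a point. -/
lemma eval_motion (x : (Derivation k L L) × (Fin 3 → L)) (l : Fin n) :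
    (motion q x).eval (q.P l) = ptMotion q x l + (wronskian q.F q.G).eval (q.P l) * x.1 (q.P l) := by
  show eval _ (_ + _) = _
  rw [ptMotion, deriv_eval x.1 q.F, deriv_eval x.1 q.G]
  simp only [eval_add, eval_sub, eval_mul, eval_C, wronskian]
  ring

lemma eval_wronskian_eq_zero (he : ∀ l, 1 ≤ e l) (l : Fin n) (h : 2 ≤ e l) :
    (wronskian q.F q.G).eval (q.P l) = 0 := by
  obtain ⟨r, hr⟩ := pow_dvd_wronskian q he l
  obtain ⟨m, hm⟩ : ∃ m, e l - 1 = m + 1 := ⟨e l - 2, by omega⟩
  rw [hr, hm]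
  simp

lemma pow_dvd_motion (he : ∀ l, 1 ≤ e l) (x : (Derivation k L L) × (Fin 3 → L)) (l : Fin n)
    (h0 : ptMotion q x l = 0) : (X - C (q.P l)) ^ (e l - 1) ∣ motion q x := by
  rw [ptMotion] at h0
  set a := q.F.eval (q.P l) with ha
  set c := q.G.eval (q.P l) with hc
  set S := C c * q.F - C a * q.G with hSdef
  set M := (X - C (q.P l)) ^ (e l - 1) with hM
  obtain ⟨w, hw⟩ := q.hS l
  have hS1 : M ∣ S := (pow_dvd_pow _ (Nat.sub_le _ _)).trans ⟨w, hw⟩
  have hS2 : M ∣ dcoe x.1 S := by
    obtain ⟨m, hm⟩ : ∃ m, e l = m + 1 := ⟨e l - 1, by have := he l; omega⟩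
    rw [show S = _ from hw, hM, hm, dcoe_mul, dcoe_pow_succ, Nat.add_sub_cancel]
    exact dvd_add (dvd_mul_of_dvd_left (dvd_neg.mpr (dvd_mul_left _ _)) _)
      (dvd_mul_of_dvd_left (pow_dvd_pow _ (Nat.le_succ _)) _)
  obtain ⟨H, r, t, hFH, hGH⟩ : ∃ (H : L[X]) (r t : L), q.F = C a * H + C r * S ∧ q.G = C c * H + C t * S := by
    by_cases h : c = 0
    · have ha0 : a ≠ 0 := fun h' => q.hb l ⟨h', h⟩
      have h1 : C a * C a⁻¹ = (1 : L[X]) := by rw [← C_mul, mul_inv_cancel₀ ha0, map_one]
      refine ⟨C a⁻¹ * q.F, 0, -a⁻¹, ?_, ?_⟩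
      · rw [map_zero, zero_mul, add_zero, ← mul_assoc, h1, one_mul]
      · rw [hSdef, h, map_zero, map_neg]
        linear_combination -q.G * h1
    · have h1 : C c * C c⁻¹ = (1 : L[X]) := by rw [← C_mul, mul_inv_cancel₀ h, map_one]
      refine ⟨C c⁻¹ * q.G, c⁻¹, 0, ?_, ?_⟩
      · rw [hSdef]
        linear_combination -q.F * h1
      · rw [map_zero, zero_mul, add_zero, ← mul_assoc, h1, one_mul]
  have hd : C c * dcoe x.1 q.F - C a * dcoe x.1 q.G = dcoe x.1 S - C (x.1 c) * q.F + C (x.1 a) * q.G := by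
    rw [hSdef, dcoe_sub, dcoe_mul, dcoe_mul, dcoe_C, dcoe_C]; ring
  have hC : C (x.1 a) * C c - C a * C (x.1 c) +
      (C (x.2 0) * (C a * C a) + C (x.2 1) * (C a * C c) + C (x.2 2) * (C c * C c)) = (0 : L[X]) := by
    simp only [← C_mul, ← C_sub, ← C_add]
    rw [h0, map_zero]
  have : motion q x = H * dcoe x.1 S + S * (C t * dcoe x.1 q.F - C r * dcoe x.1 q.G
      - C (x.1 c) * (C r * H) + C (x.1 a) * (C t * H)
      + C (x.2 0) * (C r * (C a * H) * 2 + C r * C r * S)
      + C (x.2 1) * (C r * (C c * H) + C t * (C a * H) + C r * C t * S)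
      + C (x.2 2) * (C t * (C c * H) * 2 + C t * C t * S)) := by
    show dcoe x.1 q.F * q.G - q.F * dcoe x.1 q.G +
      (C (x.2 0) * (q.F * q.F) + C (x.2 1) * (q.F * q.G) + C (x.2 2) * (q.G * q.G)) = _
    generalize dcoe x.1 q.F = u at hd ⊢
    generalize dcoe x.1 q.G = v at hd ⊢
    generalize dcoe x.1 S = z at hd ⊢
    rw [hFH, hGH] at hd ⊢
    linear_combination H * hd + H * H * hC
  rw [this]
  exact dvd_add (dvd_mul_of_dvd_right hS2 _) (dvd_mul_of_dvd_left hS1 _)

include he hsum

/-- A motion which vanishes identically is trivial on the coefficients and on the points. -/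
lemma motion_eq_zero (x : (Derivation k L L) × (Fin 3 → L)) (hte : ∀ l, (e l : L) ≠ 0) (h : motion q x = 0) :
    x.2 = 0 ∧ (∀ m, x.1 (q.F.coeff m) = 0) ∧ (∀ m, x.1 (q.G.coeff m) = 0) ∧ ∀ l, 2 ≤ e l → x.1 (q.P l) = 0 := by
  have hcop := isCoprime q he hsum
  set A := dcoe x.1 q.F + C (x.2 1) * q.F + C (x.2 2) * q.G with hA
  set B := dcoe x.1 q.G - C (x.2 0) * q.F with hB
  have hAB : A * q.G = q.F * B := by
    change dcoe x.1 q.F * q.G - q.F * dcoe x.1 q.G +
      (C (x.2 0) * (q.F * q.F) + C (x.2 1) * (q.F * q.G) + C (x.2 2) * (q.G * q.G)) = 0 at h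
    rw [hA, hB]; linear_combination h
  obtain ⟨w, hwA⟩ := hcop.dvd_of_dvd_mul_right ⟨B, hAB⟩
  have hwB : B = w * q.G := by
    by_cases hF0 : q.F = 0
    · exact absurd (by rw [hF0, wronskian_zero_left]) q.hW
    · exact mul_left_cancel₀ hF0 (by rw [← hAB, hwA]; ring)
  have hAd : A.natDegree ≤ d := (natDegree_add_le _ _).trans (max_le ((natDegree_add_le _ _).trans
    (max_le (dcoe_natDegree_le _ q.hF) ((natDegree_C_mul_le _ _).trans q.hF))) ((natDegree_C_mul_le _ _).trans q.hG))
  have hBd : B.natDegree ≤ d := (natDegree_sub_le _ _).trans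
    (max_le (dcoe_natDegree_le _ q.hG) ((natDegree_C_mul_le _ _).trans q.hF))
  have hw0 : w.natDegree = 0 := by
    by_cases hw : w = 0
    · simp [hw]
    rcases q.hd with hFd | hGd
    · have hF0 : q.F ≠ 0 := fun h => hFd (by simp [h])
      have := le_natDegree_of_ne_zero hFd
      rw [hwA, natDegree_mul hF0 hw] at hAd
      omega
    · have hG0 : q.G ≠ 0 := fun h => hGd (by simp [h])
      have := le_natDegree_of_ne_zero hGd
      rw [hwB, natDegree_mul hw hG0] at hBd
      omega
  obtain ⟨c, rfl⟩ : ∃ c, w = C c := ⟨_, eq_C_of_natDegree_eq_zero hw0⟩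
  have eA := fun m => congrArg (fun f : L[X] => f.coeff m) hwA
  have eB := fun m => congrArg (fun f : L[X] => f.coeff m) hwB
  simp only [hA, hB, coeff_add, coeff_sub, coeff_C_mul, coeff_mul_C, coeff_dcoe] at eA eB
  have a1 := eA q.i₀
  have a2 := eA q.j₀
  have b1 := eB q.i₀
  have b2 := eB q.j₀
  simp only [q.hFi, q.hFj, q.hGi, q.hGj, Derivation.map_one_eq_zero, map_zero, mul_zero, mul_one, zero_mul, one_mul,
    add_zero, zero_add, sub_zero, zero_sub] at a1 a2 b1 b2
  have x0 : x.2 0 = 0 := neg_eq_zero.mp b1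
  have c0 : c = 0 := b2.symm
  have x1 : x.2 1 = 0 := by rw [a1, c0]
  have x2 : x.2 2 = 0 := a2
  have hF : ∀ m, x.1 (q.F.coeff m) = 0 := fun m => by simpa [x1, x2, c0] using eA m
  have hG : ∀ m, x.1 (q.G.coeff m) = 0 := fun m => by simpa [x0, c0] using eB m
  refine ⟨funext fun i => by fin_cases i <;> assumption, hF, hG, fun l hl2 => ?_⟩
  have hz : ∀ {f : L[X]}, (∀ m, x.1 (f.coeff m) = 0) → dcoe x.1 f = 0 := fun hf => by ext m; simp [coeff_dcoe, hf]
  have hev : ∀ {f : L[X]}, (∀ m, x.1 (f.coeff m) = 0) → x.1 (f.eval (q.P l)) = (derivative f).eval (q.P l) * x.1 (q.P l) := by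
    intro f hf
    rw [eval_eq_sum, Polynomial.sum_def, map_sum, derivative_apply, Polynomial.sum_def, eval_finsetSum, Finset.sum_mul]
    refine Finset.sum_congr rfl fun m _ => ?_
    rw [Derivation.leibniz, hf m, smul_zero, add_zero, Derivation.leibniz_pow]
    simp only [eval_mul, eval_C, eval_pow, eval_X, smul_eq_mul, nsmul_eq_mul]
    ring
  obtain ⟨w, hw⟩ := q.hS l
  set S := C (q.G.eval (q.P l)) * q.F - C (q.F.eval (q.P l)) * q.G with hSdef
  obtain ⟨m, hm⟩ : ∃ m, e l = m + 1 + 1 := ⟨e l - 2, by omega⟩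
  have hS' : (derivative S).eval (q.P l) = 0 := by
    rw [show S = _ from hw, hm, derivative_mul, derivative_pow]
    simp
  have hD : dcoe x.1 S = C (x.1 (q.P l)) * (C ((derivative q.G).eval (q.P l)) * q.F - C ((derivative q.F).eval (q.P l)) * q.G) := by
    rw [hSdef, dcoe_sub, dcoe_mul, dcoe_mul, dcoe_C, dcoe_C, hz hF, hz hG, hev hF, hev hG]
    simp only [map_mul]
    ring
  obtain ⟨r, hr⟩ : (X - C (q.P l)) ^ e l ∣ dcoe x.1 S := by
    rw [hD]
    refine dvd_mul_of_dvd_right ?_ _
    rw [hSdef, derivative_sub, derivative_C_mul, derivative_C_mul] at hS'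
    simp only [eval_sub, eval_mul, eval_C] at hS'
    by_cases hc : q.G.eval (q.P l) = 0
    · have ha : q.F.eval (q.P l) ≠ 0 := fun ha => q.hb l ⟨ha, hc⟩
      have hGd : (derivative q.G).eval (q.P l) = 0 := by
        have := hS'
        rw [hc, zero_mul, zero_sub, neg_eq_zero] at this
        exact (mul_eq_zero.mp this).resolve_left ha
      have : C ((derivative q.G).eval (q.P l)) * q.F - C ((derivative q.F).eval (q.P l)) * q.G =
          C ((derivative q.F).eval (q.P l) / q.F.eval (q.P l)) * S := by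
        have h1 : C ((derivative q.F).eval (q.P l) / q.F.eval (q.P l)) * C (q.F.eval (q.P l)) =
            C ((derivative q.F).eval (q.P l)) := by rw [← C_mul, div_mul_cancel₀ _ ha]
        rw [hSdef, hc, hGd, map_zero]
        linear_combination q.G * h1
      rw [this]
      exact dvd_mul_of_dvd_right ⟨w, show S = _ from hw⟩ _
    · have : C ((derivative q.G).eval (q.P l)) * q.F - C ((derivative q.F).eval (q.P l)) * q.G =
          C ((derivative q.G).eval (q.P l) / q.G.eval (q.P l)) * S := by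
        have h1 : C ((derivative q.G).eval (q.P l) / q.G.eval (q.P l)) * C (q.G.eval (q.P l)) =
            C ((derivative q.G).eval (q.P l)) := by rw [← C_mul, div_mul_cancel₀ _ hc]
        have h2 : C ((derivative q.G).eval (q.P l) / q.G.eval (q.P l)) * C (q.F.eval (q.P l)) =
            C ((derivative q.F).eval (q.P l)) := by
          rw [← C_mul]; congr 1; field_simp; linear_combination -hS'
        rw [hSdef]
        linear_combination -q.F * h1 + q.G * h2
      rw [this]
      exact dvd_mul_of_dvd_right ⟨w, show S = _ from hw⟩ _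
  rw [show S = _ from hw, hm, dcoe_mul, dcoe_pow_succ] at hr
  have key : C (x.1 (q.P l)) * C ((m + 1 + 1 : ℕ) : L) * w = (X - C (q.P l)) * (dcoe x.1 w - r) := by
    refine mul_left_cancel₀ (pow_ne_zero (m + 1) (X_sub_C_ne_zero (q.P l))) ?_
    have hp : (X - C (q.P l)) ^ (m + 1 + 1) = (X - C (q.P l)) ^ (m + 1) * (X - C (q.P l)) := pow_succ _ _
    rw [hp] at hr
    linear_combination -hr
  by_contra hne
  have hu : x.1 (q.P l) * ((m + 1 + 1 : ℕ) : L) ≠ 0 := mul_ne_zero hne (hm ▸ hte l)
  rw [← C_mul] at key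
  have hXw : X - C (q.P l) ∣ w := (isUnit_C.mpr (isUnit_iff_ne_zero.mpr hu)).dvd_mul_left.mp ⟨_, key⟩
  exact q.hS' l (by rw [← hSdef, hw, pow_succ]; exact mul_dvd_mul_left _ hXw)

/-- The bound on the transcendence degree. -/
theorem trdeg_le [Algebra.EssFiniteType k L] (hte : ∀ l, (e l : L) ≠ 0)
    (hgen : ∀ D : Derivation k L L,
      (∀ m, D (q.F.coeff m) = 0) → (∀ m, D (q.G.coeff m) = 0) → (∀ l, D (q.P l) = 0) → D = 0) :
    Cardinal.toNat (Algebra.trdeg k L) ≤ n ∧
      ∀ i j : Fin n, i ≠ j → q.F.eval (q.P i) * q.G.eval (q.P j) = q.F.eval (q.P j) * q.G.eval (q.P i) →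
        Cardinal.toNat (Algebra.trdeg k L) + 1 ≤ n := by
  obtain ⟨c, hc0, hc⟩ := exists_wronskian_eq q he hsum
  have h1 : Cardinal.toNat (Algebra.trdeg k L) ≤ Module.finrank L Ω[L⁄k] :=
    le_add_self.trans_eq (Groth.Agent.FieldExtLib.finrank_kaehler_eq k L).2.symm
  let eD := KaehlerDifferential.linearMapEquivDerivation k L (M := L)
  let T : ((Ω[L⁄k] →ₗ[L] L) × (Fin 3 → L)) →ₗ[L] L[X] :=
    (motion q).comp (LinearMap.prodMap eD.toLinearMap LinearMap.id)
  let δ : Fin n → (((Ω[L⁄k] →ₗ[L] L) × (Fin 3 → L)) →ₗ[L] L) := fun l =>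
    { toFun := fun x => eD x.1 (q.P l)
      map_add' := fun x y => by simp
      map_smul' := fun a x => by simp }
  let Θ : ((Ω[L⁄k] →ₗ[L] L) × (Fin 3 → L)) →ₗ[L] (Fin n → L) :=
    LinearMap.pi fun l => (Polynomial.leval (q.P l)).comp T - (wronskian q.F q.G).eval (q.P l) • δ l
  have hΘ : ∀ x l, Θ x l = ptMotion q (eD x.1, x.2) l := fun x l => by
    show (motion q (eD x.1, x.2)).eval (q.P l) - (wronskian q.F q.G).eval (q.P l) • eD x.1 (q.P l) = _
    rw [eval_motion q, smul_eq_mul]
    ring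
  have hT : ∀ x, Θ x = 0 → T x = 0 → x = 0 := fun x hΘ0 hx => by
    obtain ⟨h2, hF, hG, hP⟩ := motion_eq_zero q he hsum (eD x.1, x.2) hte hx
    have : eD x.1 = 0 := hgen _ hF hG fun l => by
      by_cases hl : 2 ≤ e l
      · exact hP l hl
      have hl1 : e l = 1 := by have := he l; omega
      have h0 := congrFun hΘ0 l
      rw [hΘ] at h0
      have h1 := eval_motion q (eD x.1, x.2) l
      rw [show motion q (eD x.1, x.2) = 0 from hx, eval_zero, h0, Pi.zero_apply, zero_add] at h1
      refine (mul_eq_zero.mp h1.symm).resolve_left ?_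
      rw [hc, eval_mul, eval_C, ramPoly, eval_prod]
      refine mul_ne_zero hc0 (Finset.prod_ne_zero_iff.mpr fun i _ => ?_)
      rw [eval_pow, eval_sub, eval_X, eval_C]
      by_cases hi : i = l
      · subst hi; rw [hl1]; simp
      · exact pow_ne_zero _ (sub_ne_zero.mpr fun h => hi (q.hP h).symm)
    exact Prod.ext (eD.injective (this.trans eD.map_zero.symm)) h2
  have hker : Module.finrank L (LinearMap.ker Θ) ≤ 3 := by
    let W : Submodule L L[X] := (Polynomial.degreeLT L 3).map (LinearMap.mulLeft L (wronskian q.F q.G))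
    have hWd : Module.finrank L W ≤ 3 := (Submodule.finrank_map_le _ _).trans (by
      rw [LinearEquiv.finrank_eq (Polynomial.degreeLTEquiv L 3)]; simp)
    haveI : Module.Finite L (Polynomial.degreeLT L 3) := Module.Finite.equiv (Polynomial.degreeLTEquiv L 3).symm
    refine le_trans ?_ hWd
    refine LinearMap.finrank_le_finrank_of_injective (f := (T.comp (LinearMap.ker Θ).subtype).codRestrict W fun x => ?_) ?_
    · have hdvd : ramPoly q ∣ motion q (eD x.1.1, x.1.2) := by
        refine Finset.prod_dvd_of_coprime ?_ fun l _ => pow_dvd_motion q he _ l ?_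
        · intro a _ b _ hab
          exact ((pairwise_coprime_X_sub_C q.hP) hab).pow
        · rw [← hΘ]; exact congrFun (LinearMap.mem_ker.mp x.2) l
      obtain ⟨r, hr⟩ := hdvd
      refine ⟨C c⁻¹ * r, ?_, ?_⟩
      · rw [SetLike.mem_coe, Polynomial.mem_degreeLT]
        by_cases hr0 : r = 0
        · rw [hr0, mul_zero, degree_zero]; exact WithBot.bot_lt_coe 3
        have hM0 : ramPoly q ≠ 0 := fun h => q.hW (by rw [hc, h, mul_zero])
        have := motion_natDegree_le q (eD x.1.1, x.1.2)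
        rw [hr, natDegree_mul hM0 hr0] at this
        have hMd : (ramPoly q).natDegree = 2 * d - 2 := by
          have h1 : ∑ l, (e l - 1) + n = ∑ l, e l := by
            conv_lhs => arg 2; rw [show n = ∑ _l : Fin n, 1 by simp]
            rw [← Finset.sum_add_distrib]
            exact Finset.sum_congr rfl fun l _ => by have := he l; omega
          rw [ramPoly, natDegree_prod _ _ fun l _ => pow_ne_zero _ (X_sub_C_ne_zero _)]
          simp only [natDegree_pow, natDegree_X_sub_C, mul_one]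
          omega
        refine (natDegree_lt_iff_degree_lt ?_).mp ?_
        · simp [hr0, hc0]
        · rw [natDegree_C_mul (inv_ne_zero hc0)]; omega
      · show wronskian q.F q.G * (C c⁻¹ * r) = motion q (eD x.1.1, x.1.2)
        rw [hr, hc]
        have h1 : C c * C c⁻¹ = (1 : L[X]) := by rw [← C_mul, mul_inv_cancel₀ hc0, map_one]
        linear_combination ramPoly q * r * h1
    · intro a b hab
      refine Subtype.ext (sub_eq_zero.mp (hT (a.1 - b.1) ?_ ?_))
      · rw [map_sub, LinearMap.mem_ker.mp a.2, LinearMap.mem_ker.mp b.2, sub_zero]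
      · rw [map_sub, sub_eq_zero]; exact congrArg Subtype.val hab
  haveI : Module.Finite L Ω[L⁄k] := inferInstance
  have hrk := LinearMap.finrank_range_add_finrank_ker Θ
  rw [Module.finrank_prod, Module.finrank_linearMap_self, Module.finrank_fintype_fun_eq_card, Fintype.card_fin] at hrk
  have hr := (Submodule.finrank_le (LinearMap.range Θ)).trans (Module.finrank_fintype_fun_eq_card L).le
  rw [Fintype.card_fin] at hr
  refine ⟨by omega, fun i j hij hcross => ?_⟩
  have hne : LinearMap.range Θ ≠ ⊤ := by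
    obtain ⟨t, ht⟩ : ∃ t, q.F.eval (q.P j) = t * q.F.eval (q.P i) ∧ q.G.eval (q.P j) = t * q.G.eval (q.P i) := by
      by_cases h : q.F.eval (q.P i) = 0
      · have hG : q.G.eval (q.P i) ≠ 0 := fun hG => q.hb i ⟨h, hG⟩
        rw [h, zero_mul] at hcross
        refine ⟨q.G.eval (q.P j) / q.G.eval (q.P i), ?_, by rw [div_mul_cancel₀ _ hG]⟩
        rw [h, mul_zero]
        exact (mul_eq_zero.mp hcross.symm).resolve_right hG
      · refine ⟨q.F.eval (q.P j) / q.F.eval (q.P i), by rw [div_mul_cancel₀ _ h], ?_⟩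
        field_simp
        linear_combination hcross
    intro htop
    obtain ⟨x, hx⟩ := LinearMap.range_eq_top.mp htop (Pi.single j 1)
    have h1 := congrFun hx i
    have h2 := congrFun hx j
    rw [hΘ, ptMotion, Pi.single_eq_of_ne hij] at h1
    rw [hΘ, ptMotion, Pi.single_eq_same, ht.1, ht.2, Derivation.leibniz, Derivation.leibniz] at h2
    simp only [smul_eq_mul] at h1 h2
    exact one_ne_zero (α := L) (by linear_combination t * t * h1 - h2)
  have := Submodule.finrank_lt hne
  rw [Module.finrank_fintype_fun_eq_card, Fintype.card_fin] at this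
  omega

end

end Groth.Agent.W4RamLib
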